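import Mathlib

set_option autoImplicit false
set_option linter.unusedSectionVars false
set_option linter.unusedVariables false

/-!
# Element orders in finite classical groups (S2264, S2265): definitions

`g` preserves a nondegenerate bilinear form, so its characteristic polynomial `χ` is
self-reciprocal; by Cayley-Hamilton `g ^ K = ± 1` as soon as `χ ∣ X ^ K ∓ 1`.  We bound such a `K`
for every self-reciprocal `χ` of degree `2 m` over a field with `q` elements by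
`q ^ (m + 1) / (q - 1)`.

* `SR ψ`: `ψ` is self-reciprocal up to a nonzero constant, with nonzero constant term.
* `mrev f`: the monic reverse of `f`.
* `Lp q S = lcm_{k ∈ S} (q ^ k + 1)`.
* `OB q ψ c`: "`ψ` has order bounded with budget `c`": `ψ ∣ X ^ (lcm (Lp q S) D * P) - 1` with
  `D ≤ q ^ cD`, `P ≤ q ^ cP`, `∑ S + cD + cP ≤ c`.  (`S` collects the half-degrees of the
  self-reciprocal irreducible factors, `D` the numbers `q ^ l - 1` of the pairs `f ≠ f*`, `P` is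
  the `p`-part coming from the multiplicities.)
-/

namespace Cfsg.Agent.Helper94.Eo

open Polynomial

variable {F : Type*} [Field F]

/-- self-reciprocal up to a nonzero constant, with nonzero constant term -/
def SR (ψ : F[X]) : Prop := ψ.coeff 0 ≠ 0 ∧ ∃ c : F, c ≠ 0 ∧ ψ.reverse = C c * ψ

/-- the monic reverse -/
noncomputable def mrev (f : F[X]) : F[X] := C (f.coeff 0)⁻¹ * f.reverse

/-- `lcm_{k ∈ S} (q ^ k + 1)` -/
def Lp (q : ℕ) (S : Finset ℕ) : ℕ := S.lcm (fun k => q ^ k + 1)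

/-- order bounded with budget `c` -/
def OB (q : ℕ) (ψ : F[X]) (c : ℕ) : Prop :=
  ∃ (S : Finset ℕ) (D P cD cP : ℕ), (∀ k ∈ S, 0 < k) ∧ 0 < D ∧ 0 < P ∧
    ψ ∣ X ^ (Nat.lcm (Lp q S) D * P) - 1 ∧ D ≤ q ^ cD ∧ P ≤ q ^ cP ∧
    S.sum id + cD + cP ≤ c ∧ (Odd q → ψ.natDegree ≠ 0 → Even (Nat.lcm (Lp q S) D))

theorem Lp_empty (q : ℕ) : Lp q ∅ = 1 := by
  unfold Lp; simp

theorem Lp_singleton (q k : ℕ) : Lp q {k} = q ^ k + 1 := by
  unfold Lp; simp

theorem Lp_union (q : ℕ) (S T : Finset ℕ) : Lp q (S ∪ T) = Nat.lcm (Lp q S) (Lp q T) := by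
  unfold Lp
  rw [Finset.lcm_union]
  rfl

theorem Lp_pos (q : ℕ) (S : Finset ℕ) : 0 < Lp q S := by
  unfold Lp
  rw [Nat.pos_iff_ne_zero]
  intro h
  rw [Finset.lcm_eq_zero_iff] at h
  obtain ⟨k, -, hk⟩ := h
  simp at hk

theorem OB_one (q : ℕ) : OB q (1 : F[X]) 0 :=
  ⟨∅, 1, 1, 0, 0, by simp, one_pos, one_pos, one_dvd _, by simp, by simp, by simp,
    fun _ h => absurd (natDegree_one) h⟩

theorem OB.mono {q : ℕ} {ψ : F[X]} {c c' : ℕ} (h : OB q ψ c) (hc : c ≤ c') : OB q ψ c' := by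
  obtain ⟨S, D, P, cD, cP, h1, h2, h3, h4, h5, h6, h7, h8⟩ := h
  exact ⟨S, D, P, cD, cP, h1, h2, h3, h4, h5, h6, h7.trans hc, h8⟩

/-- `X ^ a - 1 ∣ X ^ b - 1` when `a ∣ b` -/
theorem X_pow_sub_one_dvd {a b : ℕ} (h : a ∣ b) : (X ^ a - 1 : F[X]) ∣ X ^ b - 1 := by
  obtain ⟨c, rfl⟩ := h
  rw [pow_mul]
  simpa using sub_dvd_pow_sub_pow (X ^ a : F[X]) 1 c

end Cfsg.Agent.Helper94.Eo
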