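import Mathlib
import Cfsg.Prelude.Def_Classical

set_option autoImplicit false
set_option linter.unusedSectionVars false
set_option linter.unusedVariables false

/-!
# (GRAM) Gram matrices of the polar forms of the three standard quadratic forms

For each form: a matrix `B` with `Q (u + v) - Q u - Q v = u ⬝ᵥ B *ᵥ v` and `det B ≠ 0`.

* plus: `B = fromBlocks 0 1 1 0` on `Fin m ⊕ Fin m`; `B * B = 1`, so `det B ≠ 0`.
* odd (`2 ≠ 0`): `B = fromBlocks (2 • 1) 0 0 (fromBlocks 0 1 1 0)` on `Unit ⊕ (Fin m ⊕ Fin m)`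
  (`Matrix.det_fromBlocks_zero₂₁`/`det_fromBlocks_zero₁₂`).
* minus: `B = fromBlocks (fromBlocks 0 1 1 0) 0 0 !![2, a; a, 2 * b]` on
  `(Fin m ⊕ Fin m) ⊕ Fin 2`; `det !![2, a; a, 2 b] = 4 b - a²` (`Matrix.det_fin_two_of`), which is
  nonzero for an anisotropic binary form: if `2 ≠ 0` and `4 b = a²` then `z₁ = -a/2, z₂ = 1` is
  a zero; if `2 = 0` then `a = 0` and `z₁ = β, z₂ = 1` with `β² = b` (the Frobenius is surjective
  on a finite field: `FiniteField.exists_sq`-type lemma / `frobenius` bijective / `isSquare` in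
  char 2) is a zero.
Expanding `Q (u + v)`: `Pi.add_apply`, `Finset.sum_add_distrib`, `Fintype.sum_sum_type`,
`Matrix.mulVec`, `dotProduct`, `Matrix.fromBlocks_apply₁₁` …, `ring`.
-/

namespace Cfsg.Agent.Helper94.Eo

open Matrix

variable {F : Type*} [Field F]

/-- the hyperbolic Gram matrix -/
def JGram (m : ℕ) (F : Type*) [Field F] : Matrix (Fin m ⊕ Fin m) (Fin m ⊕ Fin m) F :=
  Matrix.fromBlocks 0 1 1 0

theorem JGram_mul_self (m : ℕ) : JGram m F * JGram m F = 1 := by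
  unfold JGram
  rw [Matrix.fromBlocks_multiply]
  simp [Matrix.fromBlocks_one]

theorem det_JGram_ne_zero (m : ℕ) : (JGram m F).det ≠ 0 := by
  intro h
  have := congrArg Matrix.det (JGram_mul_self (F := F) m)
  rw [Matrix.det_mul, h, mul_zero, Matrix.det_one] at this
  exact zero_ne_one this

theorem dot_JGram (m : ℕ) (u v : Fin m ⊕ Fin m → F) :
    u ⬝ᵥ JGram m F *ᵥ v = ∑ i : Fin m, (u (.inl i) * v (.inr i) + u (.inr i) * v (.inl i)) := by
  unfold JGram
  rw [Matrix.fromBlocks_mulVec, dotProduct, Fintype.sum_sum_type, Finset.sum_add_distrib]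
  simp [Matrix.zero_mulVec, Matrix.one_mulVec]

theorem gram_plus (m : ℕ) :
    ∃ B : Matrix (Fin m ⊕ Fin m) (Fin m ⊕ Fin m) F, B.det ≠ 0 ∧
      ∀ u v : Fin m ⊕ Fin m → F,
        Cfsg.quadFormPlus m F (u + v) - Cfsg.quadFormPlus m F u - Cfsg.quadFormPlus m F v =
          u ⬝ᵥ B *ᵥ v := by
  refine ⟨JGram m F, det_JGram_ne_zero m, fun u v => ?_⟩
  rw [dot_JGram]
  unfold Cfsg.quadFormPlus
  rw [← Finset.sum_sub_distrib, ← Finset.sum_sub_distrib]
  apply Finset.sum_congr rfl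
  intro i _
  simp only [Pi.add_apply]
  ring

theorem gram_odd (m : ℕ) (h2 : (2 : F) ≠ 0) :
    ∃ B : Matrix (Unit ⊕ (Fin m ⊕ Fin m)) (Unit ⊕ (Fin m ⊕ Fin m)) F, B.det ≠ 0 ∧
      ∀ u v : Unit ⊕ (Fin m ⊕ Fin m) → F,
        Cfsg.quadFormOdd m F (u + v) - Cfsg.quadFormOdd m F u - Cfsg.quadFormOdd m F v =
          u ⬝ᵥ B *ᵥ v := by
  refine ⟨Matrix.fromBlocks ((2 : F) • (1 : Matrix Unit Unit F)) 0 0 (JGram m F), ?_, fun u v => ?_⟩
  · rw [Matrix.det_fromBlocks_zero₂₁]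
    apply mul_ne_zero
    · simp [h2]
    · exact det_JGram_ne_zero m
  · rw [Matrix.fromBlocks_mulVec, dotProduct, Fintype.sum_sum_type]
    simp only [Sum.elim_inl, Sum.elim_inr, Matrix.zero_mulVec, add_zero, zero_add]
    have h1 : ∑ x : Fin m ⊕ Fin m, u (Sum.inr x) * (JGram m F *ᵥ (v ∘ Sum.inr)) x =
        (u ∘ Sum.inr) ⬝ᵥ JGram m F *ᵥ (v ∘ Sum.inr) := rfl
    rw [h1, dot_JGram]
    unfold Cfsg.quadFormOdd
    simp only [Finset.univ_unique, Finset.sum_singleton, Matrix.smul_mulVec, Matrix.one_mulVec,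
      Pi.smul_apply, Function.comp_apply, smul_eq_mul, Pi.add_apply]
    have e : ∀ (A B C A' B' C' : F), A + A' - (B + B') - (C + C') = (A - B - C) + (A' - B' - C') :=
      fun _ _ _ _ _ _ => by ring
    rw [e, ← Finset.sum_sub_distrib, ← Finset.sum_sub_distrib]
    congr 1
    · show (u (Sum.inl ()) + v (Sum.inl ())) ^ 2 - u (Sum.inl ()) ^ 2 - v (Sum.inl ()) ^ 2 =
        u (Sum.inl default) * (2 * v (Sum.inl default))
      have : (default : Unit) = () := rfl
      rw [this]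
      ring
    · apply Finset.sum_congr rfl
      intro i _
      ring

theorem binary_disc_ne_zero [Fintype F] (a b : F)
    (hab : ∀ z₁ z₂ : F, z₁ ^ 2 + a * z₁ * z₂ + b * z₂ ^ 2 = 0 → z₁ = 0 ∧ z₂ = 0) :
    2 * (2 * b) - a * a ≠ 0 := by
  intro h
  by_cases h2 : (2 : F) = 0
  · -- characteristic two
    have ha : a = 0 := by
      have : a * a = 0 := by
        have : 2 * (2 * b) - a * a = -(a * a) := by rw [h2]; ring
        rw [this] at h
        exact neg_eq_zero.mp h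
      exact mul_self_eq_zero.mp this
    have : CharP F 2 := CharTwo.of_one_ne_zero_of_two_eq_zero one_ne_zero h2
    have hch : ringChar F = 2 := ringChar.eq F 2
    obtain ⟨β, hβ⟩ := FiniteField.isSquare_of_char_two hch b
    have := (hab β 1 (by rw [ha, hβ]; linear_combination (β * β) * h2)).2
    exact one_ne_zero this
  · have := (hab (-a / 2) 1 (by field_simp; linear_combination h)).2
    exact one_ne_zero this

theorem gram_minus [Fintype F] (m : ℕ) (a b : F)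
    (hab : ∀ z₁ z₂ : F, z₁ ^ 2 + a * z₁ * z₂ + b * z₂ ^ 2 = 0 → z₁ = 0 ∧ z₂ = 0) :
    ∃ B : Matrix ((Fin m ⊕ Fin m) ⊕ Fin 2) ((Fin m ⊕ Fin m) ⊕ Fin 2) F, B.det ≠ 0 ∧
      ∀ u v : (Fin m ⊕ Fin m) ⊕ Fin 2 → F,
        Cfsg.quadFormMinus m F a b (u + v) - Cfsg.quadFormMinus m F a b u -
          Cfsg.quadFormMinus m F a b v = u ⬝ᵥ B *ᵥ v := by
  refine ⟨Matrix.fromBlocks (JGram m F) 0 0 !![2, a; a, 2 * b], ?_, fun u v => ?_⟩
  · rw [Matrix.det_fromBlocks_zero₂₁, Matrix.det_fin_two_of]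
    exact mul_ne_zero (det_JGram_ne_zero m) (binary_disc_ne_zero a b hab)
  · rw [Matrix.fromBlocks_mulVec, dotProduct, Fintype.sum_sum_type]
    simp only [Sum.elim_inl, Sum.elim_inr, Matrix.zero_mulVec, add_zero, zero_add]
    have h1 : ∑ x : Fin m ⊕ Fin m, u (Sum.inl x) * (JGram m F *ᵥ (v ∘ Sum.inl)) x =
        (u ∘ Sum.inl) ⬝ᵥ JGram m F *ᵥ (v ∘ Sum.inl) := rfl
    rw [h1, dot_JGram]
    unfold Cfsg.quadFormMinus
    simp only [Fin.sum_univ_two, Matrix.mulVec, dotProduct, Matrix.of_apply, Matrix.cons_val',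
      Matrix.cons_val_zero, Matrix.cons_val_one, Matrix.cons_val_fin_one, Function.comp_apply,
      Pi.add_apply]
    have e : ∀ (A B C A' B' C' : F), A + A' - (B + B') - (C + C') = (A - B - C) + (A' - B' - C') :=
      fun _ _ _ _ _ _ => by ring
    rw [e, ← Finset.sum_sub_distrib, ← Finset.sum_sub_distrib]
    congr 1
    · apply Finset.sum_congr rfl
      intro i _
      ring
    · ring

end Cfsg.Agent.Helper94.Eo
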