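import Mathlib
import Cfsg.Prelude.Def_Classical

set_option autoImplicit false
set_option linter.unusedSectionVars false
set_option linter.unusedVariables false

/-!
# (CHAR) the characteristic polynomial of an isometry of a nondegenerate bilinear form is
self-reciprocal up to sign; elements of `Ω(Q)` have determinant one

* `charpoly_reverse_of_gram`: `Aᵀ B A = B`, `det B ≠ 0`: `det A ^ 2 = 1`, `A` invertible,
  `Aᵀ = B A⁻¹ B⁻¹`; `A.charpoly.reverse = A.charpolyRev = det (1 - X • A)`
  (`Matrix.reverse_charpoly`), `Matrix.charpoly_inv` (`charpoly A⁻¹ = (-1)^n * C (det A)⁻¹ *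
  charpolyRev A`-type statement), conjugation invariance (`Matrix.charpoly_mul_comm`) and
  `Matrix.charpoly_transpose`; compare `Helper43.SpCount.charpoly_reverse_of_mem_symplectic`
  (Cfsg/Agent/Helper43/SpCountA.lean), which is this proof for `B = J`.
* `gram_of_isometry`: polarise: `(A u) ⬝ᵥ B *ᵥ (A v) = Q (A (u+v)) - Q (A u) - Q (A v) = u ⬝ᵥ B *ᵥ v`
  for all `u v`, hence the matrices agree (test on `Pi.single i 1`, `Pi.single j 1`;
  `Matrix.ext`, `Matrix.mulVec_single`/`dotProduct_single`).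
* `det_eq_one_of_mem_Omega`: `det` is a homomorphism from the isometry group to the commutative
  group `Fˣ` (`Matrix.GeneralLinearGroup.det`), so it kills the commutator subgroup
  (`Abelianization.commutator_subset_ker`/`commutator_le_ker`-type lemma:
  `commutator G ≤ f.ker` for commutative codomain).
-/

namespace Cfsg.Agent.Helper94.Eo

open Polynomial Matrix

variable {F : Type*} [Field F]

theorem charpoly_reverse_of_gram {ι : Type} [Fintype ι] [DecidableEq ι] (A B : Matrix ι ι F)
    (hB : B.det ≠ 0) (h : Aᵀ * B * A = B) :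
    A.det * A.det = 1 ∧
      A.charpoly.reverse = C (A.det * (-1) ^ Fintype.card ι) * A.charpoly := by
  have hdet : A.det * A.det = 1 := by
    have h1 := congrArg Matrix.det h
    rw [Matrix.det_mul, Matrix.det_mul, Matrix.det_transpose] at h1
    have : (A.det * A.det) * B.det = 1 * B.det := by rw [one_mul]; linear_combination h1
    exact mul_right_cancel₀ hB this
  refine ⟨hdet, ?_⟩
  have hAunit : IsUnit A := by
    rw [Matrix.isUnit_iff_isUnit_det]
    exact IsUnit.of_mul_eq_one _ hdet
  have hBunit : IsUnit B.det := isUnit_iff_ne_zero.mpr hB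
  have hinv : A⁻¹ = B⁻¹ * Aᵀ * B := by
    apply Matrix.inv_eq_left_inv
    rw [Matrix.mul_assoc, Matrix.mul_assoc, ← Matrix.mul_assoc Aᵀ, h,
      Matrix.nonsing_inv_mul _ hBunit]
  have h1 := Matrix.charpoly_inv A hAunit
  rw [hinv, Matrix.mul_assoc, Matrix.charpoly_mul_comm, Matrix.mul_assoc,
    Matrix.mul_nonsing_inv _ hBunit, Matrix.mul_one, Matrix.charpoly_transpose,
    ← Matrix.reverse_charpoly] at h1
  have hinvdet : Ring.inverse A.det = A.det := by
    rw [Ring.inverse_eq_inv']; exact inv_eq_of_mul_eq_one_left hdet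
  rw [hinvdet] at h1
  have hsq : ((-1 : F[X]) ^ Fintype.card ι) * ((-1) ^ Fintype.card ι) = 1 := by
    rw [← mul_pow]; simp
  have hdd : (C A.det * C A.det : F[X]) = 1 := by rw [← C_mul, hdet, C_1]
  have hC : (C (A.det * (-1) ^ Fintype.card ι) : F[X]) = C A.det * (-1) ^ Fintype.card ι := by
    rw [C_mul, C_pow, C_neg, C_1]
  rw [hC]
  conv_rhs => rw [h1]
  calc A.charpoly.reverse
      = (C A.det * C A.det) * ((-1) ^ Fintype.card ι * (-1) ^ Fintype.card ι) *
          A.charpoly.reverse := by rw [hdd, hsq, one_mul, one_mul]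
    _ = C A.det * (-1) ^ Fintype.card ι *
          ((-1) ^ Fintype.card ι * C A.det * A.charpoly.reverse) := by ring

theorem gram_of_isometry {ι : Type} [Fintype ι] [DecidableEq ι] (Q : (ι → F) → F)
    (B : Matrix ι ι F) (hpolar : ∀ u v : ι → F, Q (u + v) - Q u - Q v = u ⬝ᵥ B *ᵥ v)
    (A : Matrix ι ι F) (hA : ∀ v : ι → F, Q (A *ᵥ v) = Q v) : Aᵀ * B * A = B := by
  have key : ∀ u v : ι → F, u ⬝ᵥ (Aᵀ * B * A) *ᵥ v = u ⬝ᵥ B *ᵥ v := by
    intro u v
    rw [← Matrix.mulVec_mulVec, ← Matrix.mulVec_mulVec, Matrix.dotProduct_mulVec,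
      Matrix.vecMul_transpose, ← hpolar, ← Matrix.mulVec_add, hA, hA, hA, hpolar]
  ext i j
  have := key (Pi.single i 1) (Pi.single j 1)
  simpa using this

theorem det_eq_one_of_mem_Omega {ι : Type} [Fintype ι] [DecidableEq ι] (Q : (ι → F) → F)
    (g : Cfsg.Omega F Q) :
    (((g : Cfsg.isometryGroup F Q) : Matrix.GeneralLinearGroup ι F) : Matrix ι ι F).det = 1 := by
  let φ : Cfsg.isometryGroup F Q →* Fˣ :=
    (Matrix.GeneralLinearGroup.det).comp (Subgroup.subtype _)
  have hle : commutator (Cfsg.isometryGroup F Q) ≤ φ.ker :=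
    Abelianization.commutator_subset_ker φ
  have hg : φ (g : Cfsg.isometryGroup F Q) = 1 := hle g.2
  have := congrArg (fun u : Fˣ => (u : F)) hg
  simpa [φ] using this

theorem isometry_of_mem {ι : Type} [Fintype ι] [DecidableEq ι] (Q : (ι → F) → F)
    (g : Cfsg.isometryGroup F Q) (v : ι → F) :
    Q (((g : Matrix.GeneralLinearGroup ι F) : Matrix ι ι F) *ᵥ v) = Q v :=
  g.2 v v

end Cfsg.Agent.Helper94.Eo
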