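import Mathlib
import Cfsg.Agent.Helper94.Eo.Defs

set_option autoImplicit false
set_option linter.unusedSectionVars false
set_option linter.unusedVariables false

/-!
# (F1) an irreducible polynomial `f ≠ X` of degree `l` over a field with `q` elements divides
`X ^ (q ^ l - 1) - 1`

`K := AdjoinRoot f` is a field with `q ^ l` elements (`finrank = natDegree`,
`Module.card_eq_pow_finrank`/`card_eq_pow_finrank`), `α := AdjoinRoot.root f ≠ 0` (else `f ∣ X`),
`α ^ (q ^ l - 1) = 1` (`FiniteField.pow_card_sub_one_eq_one`), and `f ∣ g ↔ aeval α g = 0`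
(`AdjoinRoot.mk_eq_zero`, `AdjoinRoot.aeval_eq`).
-/

namespace Cfsg.Agent.Helper94.Eo

open Polynomial

variable {F : Type*} [Field F] [Fintype F]

/-- (F1 aux, helper48) the root of an irreducible polynomial with nonzero constant term is nonzero -/
theorem F1_root_ne_zero {f : F[X]} (hf : Irreducible f) (h0 : f.coeff 0 ≠ 0) :
    AdjoinRoot.root f ≠ 0 := by
  intro h
  rw [← AdjoinRoot.mk_X, AdjoinRoot.mk_eq_zero] at h
  have h1 : (X : F[X]) ∣ f := hf.dvd_symm irreducible_X h
  exact h0 (X_dvd_iff.mp h1)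

/-- (F1 aux, helper48) the cardinality of `AdjoinRoot f` -/
theorem F1_card_adjoinRoot {f : F[X]} (hf : Irreducible f) :
    Nat.card (AdjoinRoot f) = Fintype.card F ^ f.natDegree := by
  have hf0 : f ≠ 0 := hf.ne_zero
  have hfin : Module.Finite F (AdjoinRoot f) := (AdjoinRoot.powerBasis hf0).finite
  have h1 : Module.finrank F (AdjoinRoot f) = f.natDegree := by
    rw [(AdjoinRoot.powerBasis hf0).finrank, AdjoinRoot.powerBasis_dim]
  rw [Module.natCard_eq_pow_finrank (K := F) (V := AdjoinRoot f), h1, Nat.card_eq_fintype_card]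

theorem dvd_X_pow_card_pow_sub_one {f : F[X]} (hf : Irreducible f) (h0 : f.coeff 0 ≠ 0) :
    f ∣ X ^ (Fintype.card F ^ f.natDegree - 1) - 1 := by
  have hfact : Fact (Irreducible f) := ⟨hf⟩
  have hf0 : f ≠ 0 := hf.ne_zero
  have hfin : Module.Finite F (AdjoinRoot f) := (AdjoinRoot.powerBasis hf0).finite
  have hfin' : Finite (AdjoinRoot f) := Module.finite_of_finite F
  have hα : AdjoinRoot.root f ≠ 0 := F1_root_ne_zero hf h0
  let _ : Fintype (AdjoinRoot f) := Fintype.ofFinite _
  have hcard : Fintype.card (AdjoinRoot f) = Fintype.card F ^ f.natDegree := by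
    rw [← Nat.card_eq_fintype_card, F1_card_adjoinRoot hf]
  have hpow : AdjoinRoot.root f ^ (Fintype.card F ^ f.natDegree - 1) = 1 := by
    rw [← hcard]
    exact FiniteField.pow_card_sub_one_eq_one _ hα
  rw [← AdjoinRoot.mk_eq_zero, map_sub, map_pow, map_one, AdjoinRoot.mk_X, hpow, sub_self]

end Cfsg.Agent.Helper94.Eo
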