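import Mathlib
import Cfsg.Agent.Helper94.Eo.Defs

set_option autoImplicit false
set_option linter.unusedSectionVars false
set_option linter.unusedVariables false

/-!
# (F2) a self-reciprocal irreducible polynomial `f ∤ X² - 1` over a field with `q` elements has
even degree `2 k` and divides `X ^ (q ^ k + 1) - 1`

`K := AdjoinRoot f`, `α := root f`, `d := natDegree f = finrank F K`.  `α ≠ 0` and `f(α⁻¹) = 0`
(`SR`: `eval₂ … α⁻¹ f = α⁻¹ ^ d * eval₂ … α f.reverse`, `Polynomial.eval₂_reverse_mul_pow` /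
`reverse` API).  So there is an `F`-algebra endomorphism `τ` of `K` with `τ α = α⁻¹`
(`AdjoinRoot.liftHom`/`AdjoinRoot.liftAlgHom`), bijective as `K` is finite; the Galois group
of `K / F` is cyclic of order `d` generated by the Frobenius `x ↦ x ^ q`
(`FiniteField.frobeniusAlgEquivOfAlgebraic`, `FiniteField.bijective_frobeniusAlgEquivOfAlgebraic_pow`,
`FiniteField.orderOf_frobeniusAlgEquivOfAlgebraic`): `τ = φ ^ j`, `j < d`, i.e. `α⁻¹ = α ^ (q ^ j)`.
`j = 0` would give `α² = 1`, `f ∣ X² - 1`.  `τ² = 1` (it fixes `α`, which generates) gives `d ∣ 2 j`,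
so `d = 2 j`; `α ^ (q ^ j + 1) = 1`, so `f ∣ X ^ (q ^ j + 1) - 1`.
An alternative without Galois theory: the roots of `f` in `K` are the `d` distinct elements
`α ^ (q ^ i)`, `i < d`.
-/

namespace Cfsg.Agent.Helper94.Eo

open Polynomial

variable {F : Type*} [Field F] [Fintype F]

/-- (F2 aux, helper48) the root of an irreducible polynomial with nonzero constant term is nonzero -/
theorem F2_root_ne_zero {f : F[X]} (hf : Irreducible f) (h0 : f.coeff 0 ≠ 0) :
    AdjoinRoot.root f ≠ 0 := by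
  intro h
  rw [← AdjoinRoot.mk_X, AdjoinRoot.mk_eq_zero] at h
  have h1 : (X : F[X]) ∣ f := hf.dvd_symm irreducible_X h
  exact h0 (X_dvd_iff.mp h1)

/-- (F2 aux, helper48) the inverse of the root of a self-reciprocal polynomial is a root -/
theorem F2_eval₂_inv_root {f : F[X]} [hfact : Fact (Irreducible f)] (hsr : SR f) :
    f.eval₂ (AdjoinRoot.of f) (AdjoinRoot.root f)⁻¹ = 0 := by
  have hf : Irreducible f := hfact.out
  obtain ⟨h0, c, hc, hrev⟩ := hsr
  have hα : AdjoinRoot.root f ≠ 0 := F2_root_ne_zero hf h0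
  let _ : Invertible (AdjoinRoot.root f) := invertibleOfNonzero hα
  have h1 := (eval₂_reverse_eq_zero_iff (AdjoinRoot.of f) (AdjoinRoot.root f) f).mpr
    (AdjoinRoot.eval₂_root f)
  rw [hrev, eval₂_mul, eval₂_C, invOf_eq_inv] at h1
  refine (mul_eq_zero.mp h1).resolve_left ?_
  intro h
  exact hc ((AdjoinRoot.of f).injective (by rw [h, map_zero]))

/-- (F2 aux, helper48) arithmetic: `d ∣ 2 j`, `0 < j < d` force `d = 2 j` -/
theorem F2_eq_two_mul {d j : ℕ} (h : d ∣ 2 * j) (hj0 : 0 < j) (hjd : j < d) : d = 2 * j := by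
  obtain ⟨m, hm⟩ := h
  have hm1 : m = 1 := by
    have h1 : 0 < m := by
      rcases Nat.eq_zero_or_pos m with h | h
      · rw [h, mul_zero] at hm; omega
      · exact h
    have h2 : m < 2 := by
      by_contra hcon
      have : d * 2 ≤ d * m := Nat.mul_le_mul_left d (by omega)
      omega
    omega
  rw [hm1, mul_one] at hm
  exact hm.symm

theorem sr_irreducible_dvd {f : F[X]} (hf : Irreducible f) (hsr : SR f)
    (h2 : ¬ f ∣ X ^ 2 - 1) :
    ∃ k : ℕ, 0 < k ∧ f.natDegree = 2 * k ∧ f ∣ X ^ (Fintype.card F ^ k + 1) - 1 := by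
  have hfact : Fact (Irreducible f) := ⟨hf⟩
  have hf0 : f ≠ 0 := hf.ne_zero
  have hfin : Module.Finite F (AdjoinRoot f) := (AdjoinRoot.powerBasis hf0).finite
  have hfin' : Finite (AdjoinRoot f) := Module.finite_of_finite F
  have hd : Module.finrank F (AdjoinRoot f) = f.natDegree := by
    rw [(AdjoinRoot.powerBasis hf0).finrank, AdjoinRoot.powerBasis_dim]
  have hα : AdjoinRoot.root f ≠ 0 := F2_root_ne_zero hf hsr.1
  have hinv := F2_eval₂_inv_root hsr
  -- the endomorphism `α ↦ α⁻¹`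
  let τ : AdjoinRoot f →ₐ[F] AdjoinRoot f :=
    AdjoinRoot.liftAlgHom f (Algebra.ofId F (AdjoinRoot f)) (AdjoinRoot.root f)⁻¹ hinv
  have hτα : τ (AdjoinRoot.root f) = (AdjoinRoot.root f)⁻¹ := AdjoinRoot.liftAlgHom_root _ _ _ _
  have hτinj : Function.Injective τ := τ.toRingHom.injective
  have hτbij : Function.Bijective τ := ⟨hτinj, Finite.injective_iff_surjective.mp hτinj⟩
  let τe : AdjoinRoot f ≃ₐ[F] AdjoinRoot f := AlgEquiv.ofBijective τ hτbij
  obtain ⟨⟨j, hj⟩, hjeq⟩ := (FiniteField.bijective_frobeniusAlgEquivOfAlgebraic_pow F (AdjoinRoot f)).2 τe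
  have hjeq' : FiniteField.frobeniusAlgEquivOfAlgebraic F (AdjoinRoot f) ^ j = τe := hjeq
  rw [hd] at hj
  -- `α ^ (q ^ j) = α⁻¹`
  have hαj : AdjoinRoot.root f ^ (Fintype.card F ^ j) = (AdjoinRoot.root f)⁻¹ := by
    have h1 := DFunLike.congr_fun hjeq' (AdjoinRoot.root f)
    simp only [AlgEquiv.coe_pow, FiniteField.coe_frobeniusAlgEquivOfAlgebraic, pow_iterate] at h1
    rw [h1]
    exact hτα
  -- `j ≠ 0`
  have hj0 : 0 < j := by
    rcases Nat.eq_zero_or_pos j with h | h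
    · exfalso
      rw [h, pow_zero, pow_one] at hαj
      apply h2
      rw [← AdjoinRoot.mk_eq_zero, map_sub, map_pow, map_one, AdjoinRoot.mk_X, sub_eq_zero, pow_two]
      nth_rewrite 1 [hαj]
      exact inv_mul_cancel₀ hα
    · exact h
  -- `φ ^ (2 j) = 1`
  have hφ2 : FiniteField.frobeniusAlgEquivOfAlgebraic F (AdjoinRoot f) ^ (2 * j) = 1 := by
    apply AlgEquiv.coe_toAlgHom_injective
    apply AdjoinRoot.algHom_ext
    show (FiniteField.frobeniusAlgEquivOfAlgebraic F (AdjoinRoot f) ^ (2 * j)) (AdjoinRoot.root f) =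
      (1 : AdjoinRoot f ≃ₐ[F] AdjoinRoot f) (AdjoinRoot.root f)
    simp only [AlgEquiv.coe_pow, FiniteField.coe_frobeniusAlgEquivOfAlgebraic, pow_iterate,
      AlgEquiv.one_apply]
    rw [two_mul, pow_add, pow_mul, hαj, inv_pow, hαj, inv_inv]
  have hdvd : f.natDegree ∣ 2 * j := by
    rw [← hd, ← FiniteField.orderOf_frobeniusAlgEquivOfAlgebraic F (AdjoinRoot f)]
    exact orderOf_dvd_of_pow_eq_one hφ2
  refine ⟨j, hj0, F2_eq_two_mul hdvd hj0 hj, ?_⟩
  rw [← AdjoinRoot.mk_eq_zero, map_sub, map_pow, map_one, AdjoinRoot.mk_X, sub_eq_zero, pow_succ, hαj]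
  exact inv_mul_cancel₀ hα

end Cfsg.Agent.Helper94.Eo
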