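import Mathlib

set_option autoImplicit false
set_option linter.unusedSectionVars false
set_option linter.unusedVariables false

/-!
# (NUM) elementary numeric lemmas on `p ^ Nat.clog p n` (the smallest power of `p` that is `≥ n`)

`q = p ^ f`, `f ≥ 1`.  All follow from `n ≤ p ^ e → Nat.clog p n ≤ e` (`Nat.clog_le_of_le_pow`, or
`Nat.le_pow_iff_clog_le`) and `p ^ e ≤ q ^ e`, with `2 a ≤ 2 ^ a ≤ p ^ a`, `μ ≤ 2 ^ (μ - 1)`,
`2 a + 1 ≤ 3 ^ a`.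
-/

namespace Cfsg.Agent.Helper94.Eo

theorem le_pow_clog {p : ℕ} (hp : 2 ≤ p) (n : ℕ) : n ≤ p ^ Nat.clog p n :=
  Nat.le_pow_clog (by omega) n

/-- (NUM) auxiliary: `p ^ e ≤ q ^ e` for `q = p ^ f`, `f ≥ 1` -/
theorem NUM_pow_le_pow {p q f : ℕ} (hp : 2 ≤ p) (hf : 1 ≤ f) (hq : q = p ^ f) (e : ℕ) :
    p ^ e ≤ q ^ e := by
  have hpq : p ≤ q := by
    rw [hq]
    calc p = p ^ 1 := (pow_one p).symm
      _ ≤ p ^ f := Nat.pow_le_pow_right (by omega) hf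
  exact Nat.pow_le_pow_left hpq e

/-- (NUM) auxiliary: from `n ≤ p ^ e` to `p ^ clog p n ≤ q ^ e` -/
theorem NUM_pow_clog_le {p q f : ℕ} (hp : 2 ≤ p) (hf : 1 ≤ f) (hq : q = p ^ f) {n e : ℕ}
    (h : n ≤ p ^ e) : p ^ Nat.clog p n ≤ q ^ e := by
  have h1 : Nat.clog p n ≤ e := Nat.clog_le_of_le_pow h
  calc p ^ Nat.clog p n ≤ p ^ e := Nat.pow_le_pow_right (by omega) h1
    _ ≤ q ^ e := NUM_pow_le_pow hp hf hq e

/-- (NUM) auxiliary: `2 a ≤ 2 ^ a` for `a ≥ 1` -/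
theorem NUM_two_mul_le_two_pow {a : ℕ} (ha : 1 ≤ a) : 2 * a ≤ 2 ^ a := by
  induction a with
  | zero => omega
  | succ n ih =>
    rcases Nat.eq_zero_or_pos n with h0 | hpos
    · subst h0; norm_num
    · have := ih hpos
      rw [pow_succ]; omega

/-- (NUM) auxiliary: `2 a + 1 ≤ 3 ^ a` -/
theorem NUM_two_mul_add_one_le_three_pow (a : ℕ) : 2 * a + 1 ≤ 3 ^ a := by
  induction a with
  | zero => norm_num
  | succ n ih => rw [pow_succ]; omega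

theorem pow_clog_two_mul_le {p q f : ℕ} (hp : 2 ≤ p) (hf : 1 ≤ f) (hq : q = p ^ f) {a : ℕ}
    (ha : 1 ≤ a) : p ^ Nat.clog p (2 * a) ≤ q ^ a := by
  apply NUM_pow_clog_le hp hf hq
  calc 2 * a ≤ 2 ^ a := NUM_two_mul_le_two_pow ha
    _ ≤ p ^ a := Nat.pow_le_pow_left hp a

/-- for the multiplicity `μ` of a block whose half-degree is `k` -/
theorem pow_clog_le_block {p q f : ℕ} (hp : 2 ≤ p) (hf : 1 ≤ f) (hq : q = p ^ f) {k μ : ℕ}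
    (hk : 1 ≤ k) (hμ : 1 ≤ μ) : p ^ Nat.clog p μ ≤ q ^ (k * (μ - 1)) := by
  have h1 : μ ≤ p ^ (μ - 1) := by
    have h2 : μ ≤ 2 ^ (μ - 1) := by
      obtain ⟨n, rfl⟩ : ∃ n, μ = n + 1 := ⟨μ - 1, by omega⟩
      simp only [Nat.add_sub_cancel]
      exact Nat.lt_two_pow_self
    exact h2.trans (Nat.pow_le_pow_left hp _)
  have h3 : p ^ Nat.clog p μ ≤ q ^ (μ - 1) := NUM_pow_clog_le hp hf hq h1
  have hq1 : 1 ≤ q := by
    rw [hq]; exact Nat.one_le_pow _ _ (by omega)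
  calc p ^ Nat.clog p μ ≤ q ^ (μ - 1) := h3
    _ ≤ q ^ (k * (μ - 1)) := Nat.pow_le_pow_right hq1 (Nat.le_mul_of_pos_left _ hk)

theorem pow_clog_odd_le {p q f : ℕ} (hp : 3 ≤ p) (hf : 1 ≤ f) (hq : q = p ^ f) {a : ℕ}
    (ha : 1 ≤ a) : p ^ Nat.clog p (2 * a + 1) ≤ q ^ a := by
  apply NUM_pow_clog_le (by omega) hf hq
  calc 2 * a + 1 ≤ 3 ^ a := NUM_two_mul_add_one_le_three_pow a
    _ ≤ p ^ a := Nat.pow_le_pow_left hp a

/-- (NUM) auxiliary: `4 m (q - 1) ≤ q ^ m` for `q ≥ 3`, `m ≥ 3` -/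
theorem NUM_four_mul_le {q : ℕ} (hq : 3 ≤ q) {m : ℕ} (hm : 3 ≤ m) :
    4 * m * (q - 1) ≤ q ^ m := by
  induction m, hm using Nat.le_induction with
  | base =>
    obtain ⟨r, rfl⟩ : ∃ r, q = r + 3 := ⟨q - 3, by omega⟩
    have : (r + 3) ^ 3 = r ^ 3 + 9 * r ^ 2 + 27 * r + 27 := by ring
    rw [this]
    have h1 : r + 3 - 1 = r + 2 := by omega
    rw [h1]
    nlinarith [Nat.zero_le (r ^ 3), Nat.zero_le (r ^ 2)]
  | succ n hn ih =>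
    rw [pow_succ]
    have h1 : 4 * (n + 1) * (q - 1) ≤ 3 * (4 * n * (q - 1)) := by
      have : 4 * (n + 1) ≤ 3 * (4 * n) := by omega
      calc 4 * (n + 1) * (q - 1) ≤ 3 * (4 * n) * (q - 1) := Nat.mul_le_mul_right _ this
        _ = 3 * (4 * n * (q - 1)) := by ring
    calc 4 * (n + 1) * (q - 1) ≤ 3 * (4 * n * (q - 1)) := h1
      _ ≤ 3 * q ^ n := Nat.mul_le_mul_left _ ih
      _ ≤ q * q ^ n := Nat.mul_le_mul_right _ hq
      _ = q ^ n * q := by ring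

/-- the element `(X - 1) (X + 1) ^ (2 m)` in odd dimension `2 m + 1`, `m ≥ 3`:
`p ^ clog p (2 m) < 2 m p ≤ 2 m q` and `4 m (q - 1) ≤ q ^ m` for `q ≥ 3`, `m ≥ 3` -/
theorem two_pow_clog_bound {p q f : ℕ} (hp : 3 ≤ p) (hf : 1 ≤ f) (hq : q = p ^ f) {m : ℕ}
    (hm : 3 ≤ m) : (q - 1) * (2 * p ^ Nat.clog p (2 * m)) ≤ q ^ (m + 1) := by
  have hpq : p ≤ q := by
    rw [hq]
    calc p = p ^ 1 := (pow_one p).symm
      _ ≤ p ^ f := Nat.pow_le_pow_right (by omega) hf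
  have hq3 : 3 ≤ q := hp.trans hpq
  -- `p ^ clog p (2 m) ≤ 2 m p`
  have hclog : p ^ Nat.clog p (2 * m) ≤ 2 * m * p := by
    have hpos : 0 < Nat.clog p (2 * m) := Nat.clog_pos (by omega) (by omega)
    have hlt : p ^ (Nat.clog p (2 * m)).pred < 2 * m :=
      Nat.pow_pred_clog_lt_self (by omega) (by omega)
    obtain ⟨e, he⟩ : ∃ e, Nat.clog p (2 * m) = e + 1 := ⟨Nat.clog p (2 * m) - 1, by omega⟩
    rw [he] at hlt ⊢
    simp only [Nat.pred_succ] at hlt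
    rw [pow_succ]
    exact Nat.mul_le_mul_right _ hlt.le
  calc (q - 1) * (2 * p ^ Nat.clog p (2 * m)) ≤ (q - 1) * (2 * (2 * m * p)) :=
        Nat.mul_le_mul_left _ (Nat.mul_le_mul_left _ hclog)
    _ = 4 * m * (q - 1) * p := by ring
    _ ≤ q ^ m * q := Nat.mul_le_mul (NUM_four_mul_le hq3 hm) hpq
    _ = q ^ (m + 1) := (pow_succ q m).symm

end Cfsg.Agent.Helper94.Eo
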