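import Mathlib
import Cfsg.Agent.Helper94.Eo.Defs

set_option autoImplicit false
set_option linter.unusedSectionVars false
set_option linter.unusedVariables false

/-!
# (REV) the reverse of a polynomial with nonzero constant term: `mrev`, `SR`

Mathlib: `Polynomial.reverse_mul_of_domain`, `Polynomial.reverse_natDegree` (`natDegree_reverse`),
`Polynomial.coeff_zero_reverse`, `Polynomial.reverse_leadingCoeff`, `Polynomial.reverse_reverse`-type
lemmas (`reverse (reverse f) = f` when `f.coeff 0 ≠ 0`: `Polynomial.reverse_reverse`?  otherwise via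
`reflect`), `Polynomial.reverse_C`, `Polynomial.reverse_pow`?.  For irreducibility of the reverse:
if `f.reverse = a * b` then `f = a.reverse * b.reverse` (constant terms nonzero, apply `reverse`
again), so one of them is a unit (nonzero constant).

(pieces proved by helper88; the auxiliary lemmas are prefixed `REV_`)
-/

namespace Cfsg.Agent.Helper94.Eo

open Polynomial

variable {F : Type*} [Field F]

/-! ### auxiliary lemmas -/

theorem REV_ne_zero {f : F[X]} (h0 : f.coeff 0 ≠ 0) : f ≠ 0 := by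
  rintro rfl
  exact h0 (coeff_zero 0)

theorem REV_natTrailingDegree {f : F[X]} (h0 : f.coeff 0 ≠ 0) : f.natTrailingDegree = 0 :=
  natTrailingDegree_eq_zero.mpr (Or.inr h0)

theorem REV_natDegree_reverse {f : F[X]} (h0 : f.coeff 0 ≠ 0) :
    f.reverse.natDegree = f.natDegree := by
  rw [reverse_natDegree, REV_natTrailingDegree h0, Nat.sub_zero]

theorem REV_reverse_reverse {f : F[X]} (h0 : f.coeff 0 ≠ 0) : f.reverse.reverse = f := by
  have h : f.reverse.reverse = reflect f.reverse.natDegree (reflect f.natDegree f) := rfl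
  rw [h, REV_natDegree_reverse h0, reflect_reflect]

theorem REV_leadingCoeff_reverse {f : F[X]} (h0 : f.coeff 0 ≠ 0) :
    f.reverse.leadingCoeff = f.coeff 0 := by
  rw [reverse_leadingCoeff, trailingCoeff_eq_coeff_zero h0]

theorem REV_reverse_C_mul (c : F) (f : F[X]) : (C c * f).reverse = C c * f.reverse := by
  rw [reverse_mul_of_domain, reverse_C]

theorem REV_reverse_pow (f : F[X]) (n : ℕ) : (f ^ n).reverse = f.reverse ^ n := by
  induction n with
  | zero =>
    rw [pow_zero, pow_zero]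
    have : (1 : F[X]) = C 1 := C_1.symm
    rw [this, reverse_C]
  | succ n ih => rw [pow_succ, pow_succ, reverse_mul_of_domain, ih]

theorem REV_reverse_X : (X : F[X]).reverse = 1 := by
  have h : (X : F[X]) = C 1 * X := by rw [C_1, one_mul]
  rw [h, reverse_mul_X, reverse_C, C_1]

theorem REV_eval_one_reverse (f : F[X]) : f.reverse.eval 1 = f.eval 1 := by
  let _inst : Invertible (1 : F) := invertibleOne
  have h := eval₂_reverse_mul_pow (RingHom.id F) (1 : F) f
  rw [invOf_one, one_pow, mul_one] at h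
  exact h

theorem REV_coeff_zero_mrev (f : F[X]) :
    (mrev f).coeff 0 = (f.coeff 0)⁻¹ * f.leadingCoeff := by
  unfold mrev
  rw [coeff_C_mul, coeff_zero_reverse]

theorem REV_reverse_mrev {f : F[X]} (h0 : f.coeff 0 ≠ 0) :
    (mrev f).reverse = C (f.coeff 0)⁻¹ * f := by
  unfold mrev
  rw [REV_reverse_C_mul, REV_reverse_reverse h0]

/-! ### the pieces -/

theorem mrev_monic {f : F[X]} (h0 : f.coeff 0 ≠ 0) : (mrev f).Monic := by
  unfold mrev Monic
  rw [leadingCoeff_mul, leadingCoeff_C, REV_leadingCoeff_reverse h0, inv_mul_cancel₀ h0]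

theorem mrev_natDegree {f : F[X]} (h0 : f.coeff 0 ≠ 0) : (mrev f).natDegree = f.natDegree := by
  unfold mrev
  rw [natDegree_C_mul (inv_ne_zero h0), REV_natDegree_reverse h0]

theorem mrev_coeff_zero {f : F[X]} (hf : f.Monic) (h0 : f.coeff 0 ≠ 0) :
    (mrev f).coeff 0 ≠ 0 := by
  rw [REV_coeff_zero_mrev, hf.leadingCoeff, mul_one]
  exact inv_ne_zero h0

theorem mrev_mrev {f : F[X]} (hf : f.Monic) (h0 : f.coeff 0 ≠ 0) : mrev (mrev f) = f := by
  have h1 : (mrev f).coeff 0 = (f.coeff 0)⁻¹ := by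
    rw [REV_coeff_zero_mrev, hf.leadingCoeff, mul_one]
  have h2 : mrev (mrev f) = C ((mrev f).coeff 0)⁻¹ * (mrev f).reverse := rfl
  rw [h2, REV_reverse_mrev h0, h1, inv_inv, ← mul_assoc, ← C_mul, mul_inv_cancel₀ h0, C_1, one_mul]

theorem mrev_irreducible {f : F[X]} (hf : Irreducible f) (h0 : f.coeff 0 ≠ 0) :
    Irreducible (mrev f) := by
  have hfne : f ≠ 0 := REV_ne_zero h0
  -- the reverse is irreducible
  have hrev : Irreducible f.reverse := by
    refine ⟨?_, ?_⟩
    · intro hu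
      have hdeg : f.reverse.natDegree = 0 := natDegree_eq_zero_of_isUnit hu
      rw [REV_natDegree_reverse h0] at hdeg
      have hfu : IsUnit f := by
        rw [Polynomial.isUnit_iff]
        obtain ⟨c, hc⟩ := natDegree_eq_zero.mp hdeg
        refine ⟨c, ?_, hc⟩
        rw [isUnit_iff_ne_zero]
        rintro rfl
        rw [C_0] at hc
        exact hfne hc.symm
      exact hf.not_isUnit hfu
    · intro p q hpq
      have hc0 : f.reverse.coeff 0 ≠ 0 := by
        rw [coeff_zero_reverse]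
        exact leadingCoeff_ne_zero.mpr hfne
      have hpq0 : p.coeff 0 * q.coeff 0 ≠ 0 := by
        rw [← mul_coeff_zero, ← hpq]
        exact hc0
      have hp0 : p.coeff 0 ≠ 0 := left_ne_zero_of_mul hpq0
      have hq0 : q.coeff 0 ≠ 0 := right_ne_zero_of_mul hpq0
      have hff : f = p.reverse * q.reverse := by
        rw [← reverse_mul_of_domain, ← hpq, REV_reverse_reverse h0]
      have key : ∀ r : F[X], r.coeff 0 ≠ 0 → IsUnit r.reverse → IsUnit r := by
        intro r hr0 hu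
        have hdeg : r.reverse.natDegree = 0 := natDegree_eq_zero_of_isUnit hu
        rw [REV_natDegree_reverse hr0] at hdeg
        rw [Polynomial.isUnit_iff]
        obtain ⟨c, hc⟩ := natDegree_eq_zero.mp hdeg
        refine ⟨c, ?_, hc⟩
        rw [isUnit_iff_ne_zero]
        rintro rfl
        rw [C_0] at hc
        exact REV_ne_zero hr0 hc.symm
      rcases hf.isUnit_or_isUnit hff with hu | hu
      · exact Or.inl (key p hp0 hu)
      · exact Or.inr (key q hq0 hu)
  unfold mrev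
  have hunit : IsUnit (C (f.coeff 0)⁻¹ : F[X]) := by
    rw [Polynomial.isUnit_iff]
    exact ⟨(f.coeff 0)⁻¹, isUnit_iff_ne_zero.mpr (inv_ne_zero h0), rfl⟩
  exact (irreducible_isUnit_mul hunit).mpr hrev

/-- `mrev f = f` means that `f` is self-reciprocal -/
theorem sr_of_mrev_eq {f : F[X]} (h0 : f.coeff 0 ≠ 0) (h : mrev f = f) : SR f := by
  refine ⟨h0, f.coeff 0, h0, ?_⟩
  have h1 : C (f.coeff 0) * mrev f = f.reverse := by
    unfold mrev
    rw [← mul_assoc, ← C_mul, mul_inv_cancel₀ h0, C_1, one_mul]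
  rw [← h1, h]

theorem mrev_eq_of_sr {f : F[X]} (hf : f.Monic) (h : SR f) : mrev f = f := by
  obtain ⟨h0, c, hc, hrev⟩ := h
  -- comparing leading coefficients: `c = f.coeff 0`
  have hlead : f.coeff 0 = c := by
    have := congrArg leadingCoeff hrev
    rw [REV_leadingCoeff_reverse h0, leadingCoeff_mul, leadingCoeff_C, hf.leadingCoeff,
      mul_one] at this
    exact this
  unfold mrev
  rw [hrev, ← hlead, ← mul_assoc, ← C_mul, inv_mul_cancel₀ h0, C_1, one_mul]

theorem SR.mul {a b : F[X]} (ha : SR a) (hb : SR b) : SR (a * b) := by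
  obtain ⟨ha0, ca, hca, hra⟩ := ha
  obtain ⟨hb0, cb, hcb, hrb⟩ := hb
  refine ⟨?_, ca * cb, mul_ne_zero hca hcb, ?_⟩
  · rw [mul_coeff_zero]
    exact mul_ne_zero ha0 hb0
  · rw [reverse_mul_of_domain, hra, hrb, C_mul]
    ring

theorem SR.pow {a : F[X]} (ha : SR a) (n : ℕ) : SR (a ^ n) := by
  induction n with
  | zero =>
    rw [pow_zero]
    refine ⟨?_, 1, one_ne_zero, ?_⟩
    · rw [coeff_one_zero]
      exact one_ne_zero
    · have : (1 : F[X]) = C 1 := C_1.symm
      rw [C_1, one_mul]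
      rw [this, reverse_C]
  | succ n ih =>
    rw [pow_succ]
    exact ih.mul ha

theorem SR.of_mul_left {a b : F[X]} (ha : SR a) (hab : SR (a * b)) : SR b := by
  obtain ⟨ha0, ca, hca, hra⟩ := ha
  obtain ⟨hab0, c, hc, hrab⟩ := hab
  have hane : a ≠ 0 := REV_ne_zero ha0
  have hb0 : b.coeff 0 ≠ 0 := by
    rw [mul_coeff_zero] at hab0
    exact right_ne_zero_of_mul hab0
  refine ⟨hb0, ca⁻¹ * c, mul_ne_zero (inv_ne_zero hca) hc, ?_⟩
  rw [reverse_mul_of_domain, hra] at hrab
  -- `C ca * a * b.reverse = C c * (a * b)`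
  have h1 : a * (C ca * b.reverse) = a * (C c * b) := by
    calc a * (C ca * b.reverse) = C ca * a * b.reverse := by ring
      _ = C c * (a * b) := hrab
      _ = a * (C c * b) := by ring
  have h2 : C ca * b.reverse = C c * b := mul_left_cancel₀ hane h1
  calc b.reverse = C ca⁻¹ * (C ca * b.reverse) := by
        rw [← mul_assoc, ← C_mul, inv_mul_cancel₀ hca, C_1, one_mul]
    _ = C ca⁻¹ * (C c * b) := by rw [h2]
    _ = C (ca⁻¹ * c) * b := by rw [C_mul]; ring

theorem sr_mul_mrev {f : F[X]} (hf : f.Monic) (h0 : f.coeff 0 ≠ 0) : SR (f * mrev f) := by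
  refine ⟨?_, 1, one_ne_zero, ?_⟩
  · rw [mul_coeff_zero]
    exact mul_ne_zero h0 (mrev_coeff_zero hf h0)
  · rw [reverse_mul_of_domain, REV_reverse_mrev h0, C_1, one_mul]
    have h1 : f.reverse = C (f.coeff 0) * mrev f := by
      unfold mrev
      rw [← mul_assoc, ← C_mul, mul_inv_cancel₀ h0, C_1, one_mul]
    rw [h1]
    calc C (f.coeff 0) * mrev f * (C (f.coeff 0)⁻¹ * f)
        = (C (f.coeff 0) * C (f.coeff 0)⁻¹) * (f * mrev f) := by ring
      _ = f * mrev f := by rw [← C_mul, mul_inv_cancel₀ h0, C_1, one_mul]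

/-- the reverse of a divisor of a self-reciprocal polynomial divides it -/
theorem mrev_pow_dvd_of_pow_dvd {f ψ : F[X]} (hψ : SR ψ) (h0 : f.coeff 0 ≠ 0) {μ : ℕ}
    (h : f ^ μ ∣ ψ) : mrev f ^ μ ∣ ψ := by
  obtain ⟨hψ0, c, hc, hrev⟩ := hψ
  obtain ⟨g, hg⟩ := h
  -- `(reverse f) ^ μ ∣ C c * ψ`
  have h1 : f.reverse ^ μ * g.reverse = C c * ψ := by
    rw [← hrev, hg, reverse_mul_of_domain, REV_reverse_pow]
  have h2 : ψ = f.reverse ^ μ * (C c⁻¹ * g.reverse) := by
    calc ψ = C c⁻¹ * (C c * ψ) := by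
          rw [← mul_assoc, ← C_mul, inv_mul_cancel₀ hc, C_1, one_mul]
      _ = C c⁻¹ * (f.reverse ^ μ * g.reverse) := by rw [h1]
      _ = f.reverse ^ μ * (C c⁻¹ * g.reverse) := by ring
  have h3 : f.reverse = C (f.coeff 0) * mrev f := by
    unfold mrev
    rw [← mul_assoc, ← C_mul, mul_inv_cancel₀ h0, C_1, one_mul]
  refine ⟨C (f.coeff 0) ^ μ * (C c⁻¹ * g.reverse), ?_⟩
  rw [h2, h3, mul_pow]
  ring

/-- a self-reciprocal polynomial with `ψ(1) ≠ 0` is self-reciprocal with constant `1` -/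
theorem SR.reverse_eq {ψ : F[X]} (hψ : SR ψ) (h1 : ψ.eval 1 ≠ 0) : ψ.reverse = ψ := by
  obtain ⟨hψ0, c, hc, hrev⟩ := hψ
  have h := congrArg (eval 1) hrev
  rw [REV_eval_one_reverse, eval_mul, eval_C] at h
  have hc1 : c = 1 := by
    have h2 : c * eval 1 ψ = 1 * eval 1 ψ := by rw [one_mul]; exact h.symm
    exact mul_right_cancel₀ h1 h2
  rw [hrev, hc1, C_1, one_mul]

theorem sr_of_reverse_eq {ψ : F[X]} (hψ : ψ ≠ 0) (h : ψ.reverse = ψ) : SR ψ := by
  refine ⟨?_, 1, one_ne_zero, ?_⟩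
  · have h1 : ψ.reverse.coeff 0 = ψ.leadingCoeff := coeff_zero_reverse ψ
    rw [h] at h1
    rw [h1]
    exact leadingCoeff_ne_zero.mpr hψ
  · rw [C_1, one_mul, h]

/-- `(X - 1).reverse = -(X - 1)` and `(X + 1).reverse = X + 1` -/
theorem reverse_X_sub_one_pow (n : ℕ) :
    ((X - 1 : F[X]) ^ n).reverse = C ((-1) ^ n) * (X - 1) ^ n := by
  have h1 : (X - 1 : F[X]).reverse = C (-1) * (X - 1) := by
    have h2 : (X - 1 : F[X]) = X + C (-1) := by
      rw [C_neg, C_1]; ring
    rw [h2, reverse_add_C, REV_reverse_X, natDegree_X, pow_one, C_neg, C_1]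
    ring
  rw [REV_reverse_pow, h1, mul_pow, ← C_pow]

theorem reverse_X_add_one_pow (n : ℕ) : ((X + 1 : F[X]) ^ n).reverse = (X + 1) ^ n := by
  have h1 : (X + 1 : F[X]).reverse = X + 1 := by
    have h2 : (X + 1 : F[X]) = X + C 1 := by rw [C_1]
    rw [h2, reverse_add_C, REV_reverse_X, natDegree_X, pow_one, C_1]
    ring
  rw [REV_reverse_pow, h1]

end Cfsg.Agent.Helper94.Eo
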