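import Mathlib
import Cfsg.Agent.Helper94.Eo.Defs
import Cfsg.Agent.Helper94.Eo.P_NUM
import Cfsg.Agent.Helper94.Eo.P_F1
import Cfsg.Agent.Helper94.Eo.P_F2
import Cfsg.Agent.Helper94.Eo.P_REV

set_option autoImplicit false
set_option linter.unusedSectionVars false
set_option linter.unusedVariables false

/-!
# (BLK) the two kinds of primary blocks are order bounded

`q = |F| = p ^ f` with `p := ringChar F` (`FiniteField.card F (ringChar F)`, `CharP.char_is_prime F _`;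
see `card_eq_pow` in Eo/Fin.lean, which you may copy).  `P := p ^ Nat.clog p μ ≥ μ` (`le_pow_clog`), so
`g ^ μ ∣ g ^ P` and `(X ^ e - 1) ^ P = X ^ (e * P) - 1` in characteristic `p`
(`sub_pow_char_pow`/`sub_pow_expChar_pow`, `one_pow`).

* `ob_blockA`: `sr_irreducible_dvd` gives `k`; `S = {k}`, `D = 1`, `cD = 0`, `cP = k * (μ - 1)`
  (`pow_clog_le_block`); `Lp_singleton`; `Odd q → Even (q ^ k + 1)`.
* `ob_blockB`: `l = natDegree f`; `f` and `mrev f` are distinct monic irreducibles, hence coprime,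
  both divide `X ^ (q ^ l - 1) - 1` (`dvd_X_pow_card_pow_sub_one`, `mrev_natDegree`,
  `mrev_irreducible`, `mrev_coeff_zero`); `S = ∅`, `D = q ^ l - 1 ≤ q ^ l`, `cD = l`,
  `cP = l * (μ - 1)`; `Odd q → Even (q ^ l - 1)`; `l ≥ 1`.
-/

namespace Cfsg.Agent.Helper94.Eo

open Polynomial

variable {F : Type*} [Field F] [Fintype F]

/-- (BLK) `q = p ^ f` for `p = ringChar F` -/
theorem BLK_card_eq_pow :
    ∃ f : ℕ, 1 ≤ f ∧ Fintype.card F = ringChar F ^ f ∧ (ringChar F).Prime := by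
  have : Fact (ringChar F).Prime := ⟨CharP.char_is_prime F _⟩
  obtain ⟨n, hp, hn⟩ := FiniteField.card F (ringChar F)
  exact ⟨n, n.pos, hn, hp⟩

/-- (BLK) `g ∣ X ^ e - 1` implies `g ^ μ ∣ X ^ (e * p ^ clog p μ) - 1` -/
theorem BLK_pow_dvd {g : F[X]} {e : ℕ} (hg : g ∣ X ^ e - 1) (μ : ℕ) :
    g ^ μ ∣ X ^ (e * ringChar F ^ Nat.clog (ringChar F) μ) - 1 := by
  have hp : (ringChar F).Prime := CharP.char_is_prime F _
  have : Fact (ringChar F).Prime := ⟨hp⟩
  have h1 : μ ≤ ringChar F ^ Nat.clog (ringChar F) μ := le_pow_clog hp.two_le μ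
  have h2 : (X ^ e - 1 : F[X]) ^ (ringChar F ^ Nat.clog (ringChar F) μ) =
      X ^ (e * ringChar F ^ Nat.clog (ringChar F) μ) - 1 := by
    rw [sub_pow_char_pow, one_pow, ← pow_mul]
  rw [← h2]
  exact (pow_dvd_pow g h1).trans (pow_dvd_pow_of_dvd hg _)

/-- (BLK) arithmetic: `k + k * (μ - 1) = k * μ` -/
theorem BLK_arith {k μ : ℕ} (hμ : 1 ≤ μ) : k + k * (μ - 1) = k * μ := by
  obtain ⟨m, rfl⟩ : ∃ m, μ = m + 1 := ⟨μ - 1, by omega⟩
  rw [Nat.add_sub_cancel]
  ring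

theorem ob_blockA {f : F[X]} (hf : Irreducible f) (hsr : SR f) (h2 : ¬ f ∣ X ^ 2 - 1) {μ : ℕ}
    (hμ : 1 ≤ μ) :
    ∃ k : ℕ, 0 < k ∧ f.natDegree = 2 * k ∧ OB (Fintype.card F) (f ^ μ) (k * μ) := by
  obtain ⟨k, hk, hdeg, hdvd⟩ := sr_irreducible_dvd hf hsr h2
  obtain ⟨e, he, hq, hp⟩ := BLK_card_eq_pow (F := F)
  refine ⟨k, hk, hdeg, {k}, 1, ringChar F ^ Nat.clog (ringChar F) μ, 0, k * (μ - 1), ?_, one_pos,
    pow_pos hp.pos _, ?_, ?_, ?_, ?_, ?_⟩
  · intro k' hk'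
    rw [Finset.mem_singleton] at hk'
    rw [hk']
    exact hk
  · rw [Lp_singleton, Nat.lcm_one_right]
    exact BLK_pow_dvd hdvd μ
  · rw [pow_zero]
  · exact pow_clog_le_block hp.two_le he hq hk hμ
  · rw [Finset.sum_singleton, id, add_zero, BLK_arith hμ]
  · intro hodd _
    rw [Lp_singleton, Nat.lcm_one_right]
    exact (hodd.pow).add_one

theorem ob_blockB {f : F[X]} (hf : Irreducible f) (hmonic : f.Monic) (h0 : f.coeff 0 ≠ 0)
    (hne : mrev f ≠ f) {μ : ℕ} (hμ : 1 ≤ μ) :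
    OB (Fintype.card F) ((f * mrev f) ^ μ) (f.natDegree * μ) := by
  obtain ⟨e, he, hq, hp⟩ := BLK_card_eq_pow (F := F)
  have hl : 1 ≤ f.natDegree := Irreducible.natDegree_pos hf
  have hq2 : 2 ≤ Fintype.card F := Fintype.one_lt_card
  have hql : 2 ≤ Fintype.card F ^ f.natDegree :=
    hq2.trans (Nat.le_self_pow (by omega) _)
  have hirr : Irreducible (mrev f) := mrev_irreducible hf h0
  have hd1 : f ∣ X ^ (Fintype.card F ^ f.natDegree - 1) - 1 := dvd_X_pow_card_pow_sub_one hf h0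
  have hd2 : mrev f ∣ X ^ (Fintype.card F ^ f.natDegree - 1) - 1 := by
    have := dvd_X_pow_card_pow_sub_one hirr (mrev_coeff_zero hmonic h0)
    rw [mrev_natDegree h0] at this
    exact this
  have hcop : IsCoprime f (mrev f) := by
    rw [Irreducible.coprime_iff_not_dvd hf]
    intro hdvd
    have hassoc : Associated f (mrev f) := hf.associated_of_dvd hirr hdvd
    exact hne (eq_of_monic_of_associated hmonic (mrev_monic h0) hassoc).symm
  have hd : f * mrev f ∣ X ^ (Fintype.card F ^ f.natDegree - 1) - 1 := hcop.mul_dvd hd1 hd2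
  refine ⟨∅, Fintype.card F ^ f.natDegree - 1, ringChar F ^ Nat.clog (ringChar F) μ, f.natDegree,
    f.natDegree * (μ - 1), ?_, by omega, pow_pos hp.pos _, ?_, ?_, ?_, ?_, ?_⟩
  · intro k hk
    exact absurd hk (Finset.notMem_empty k)
  · rw [Lp_empty, Nat.lcm_one_left]
    exact BLK_pow_dvd hd μ
  · exact Nat.sub_le _ _
  · exact pow_clog_le_block hp.two_le he hq hl hμ
  · rw [Finset.sum_empty, zero_add, BLK_arith hμ]
  · intro hodd _
    rw [Lp_empty, Nat.lcm_one_left]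
    exact Nat.Odd.sub_odd (hodd.pow) odd_one

end Cfsg.Agent.Helper94.Eo
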