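import Mathlib
import Cfsg.Agent.Helper94.Eo.Defs
import Cfsg.Agent.Helper94.Eo.P_REV

set_option autoImplicit false
set_option linter.unusedSectionVars false
set_option linter.unusedVariables false

/-!
# (STEP) splitting off the primary block of an irreducible factor of a self-reciprocal polynomial

`μ :=` the multiplicity of `f` in `ψ` (`ψ ≠ 0`; e.g. `Polynomial.exists_eq_pow_mul_and_not_dvd`-style
for `multiplicity`/`emultiplicity`, `FiniteMultiplicity` of a non-unit in a nonzero polynomial):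
`ψ = f ^ μ * ψ₁`, `¬ f ∣ ψ₁`, `μ ≥ 1` as `f ∣ ψ`.

* `step_A` (`mrev f = f`): `ψ' := ψ₁`; monic (`Monic.of_mul_monic_left`), `SR` (`SR.of_mul_left`
  with `SR.pow (sr_of_mrev_eq …)`), coprime as `f` is irreducible and `¬ f ∣ ψ'`
  (`Irreducible.coprime_iff_not_dvd`, `IsCoprime.pow_left`).
* `step_B` (`mrev f ≠ f`): `mrev f ^ μ ∣ ψ` (`mrev_pow_dvd_of_pow_dvd`), `f` and `mrev f` are coprime
  (distinct monic irreducibles), so `mrev f ^ μ ∣ ψ₁`, `ψ₁ = mrev f ^ μ * ψ'`;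
  `¬ mrev f ∣ ψ'`: otherwise `mrev f ^ (μ + 1) ∣ ψ`, so `f ^ (μ + 1) = mrev (mrev f) ^ (μ + 1) ∣ ψ`.
-/

namespace Cfsg.Agent.Helper94.Eo

open Polynomial

variable {F : Type*} [Field F]

private theorem STEP_coeff_zero_ne {ψ f : F[X]} (hsr : SR ψ) (hdvd : f ∣ ψ) : f.coeff 0 ≠ 0 := by
  intro h
  obtain ⟨g, rfl⟩ := hdvd
  apply hsr.1
  rw [mul_coeff_zero, h, zero_mul]

private theorem STEP_split {ψ f : F[X]} (hψ : ψ.Monic) (hf : Irreducible f) (hdvd : f ∣ ψ) :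
    ∃ (μ : ℕ) (ψ₁ : F[X]), 1 ≤ μ ∧ ψ = f ^ μ * ψ₁ ∧ ¬ f ∣ ψ₁ ∧ ¬ f ^ (μ + 1) ∣ ψ := by
  have hψ0 : ψ ≠ 0 := hψ.ne_zero
  have hfin : FiniteMultiplicity f ψ := FiniteMultiplicity.of_not_isUnit hf.not_isUnit hψ0
  obtain ⟨ψ₁, hψ₁, hnd⟩ := hfin.exists_eq_pow_mul_and_not_dvd
  refine ⟨multiplicity f ψ, ψ₁, ?_, hψ₁, hnd, ?_⟩
  · exact hfin.le_multiplicity_of_pow_dvd (by simpa using hdvd)
  · exact hfin.not_pow_dvd_of_multiplicity_lt (Nat.lt_succ_self _)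

theorem step_A {ψ f : F[X]} (hψ : ψ.Monic) (hsr : SR ψ) (hf : Irreducible f) (hfm : f.Monic)
    (hdvd : f ∣ ψ) (hrev : mrev f = f) :
    ∃ (μ : ℕ) (ψ' : F[X]), 1 ≤ μ ∧ ψ = f ^ μ * ψ' ∧ ψ'.Monic ∧ SR ψ' ∧ IsCoprime (f ^ μ) ψ' := by
  have h0 : f.coeff 0 ≠ 0 := STEP_coeff_zero_ne hsr hdvd
  obtain ⟨μ, ψ₁, hμ, hψ₁, hnd, -⟩ := STEP_split hψ hf hdvd
  refine ⟨μ, ψ₁, hμ, hψ₁, ?_, ?_, ?_⟩
  · exact (hfm.pow μ).of_mul_monic_left (hψ₁ ▸ hψ)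
  · exact SR.of_mul_left (SR.pow (sr_of_mrev_eq h0 hrev) μ) (hψ₁ ▸ hsr)
  · exact (hf.coprime_iff_not_dvd.mpr hnd).pow_left

theorem step_B {ψ f : F[X]} (hψ : ψ.Monic) (hsr : SR ψ) (hf : Irreducible f) (hfm : f.Monic)
    (hdvd : f ∣ ψ) (hrev : mrev f ≠ f) :
    ∃ (μ : ℕ) (ψ' : F[X]), 1 ≤ μ ∧ ψ = (f * mrev f) ^ μ * ψ' ∧ ψ'.Monic ∧ SR ψ' ∧
      IsCoprime ((f * mrev f) ^ μ) ψ' := by
  have h0 : f.coeff 0 ≠ 0 := STEP_coeff_zero_ne hsr hdvd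
  have h0' : (mrev f).coeff 0 ≠ 0 := mrev_coeff_zero hfm h0
  have hf' : Irreducible (mrev f) := mrev_irreducible hf h0
  have hfm' : (mrev f).Monic := mrev_monic h0
  obtain ⟨μ, ψ₁, hμ, hψ₁, hnd, hnd'⟩ := STEP_split hψ hf hdvd
  -- `f` and `mrev f` are coprime
  have hcop : IsCoprime f (mrev f) := by
    rw [hf.coprime_iff_not_dvd]
    intro h
    have hass : Associated f (mrev f) := hf.associated_of_dvd hf' h
    exact hrev (eq_of_monic_of_associated hfm hfm' hass).symm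
  have hdvd' : mrev f ^ μ ∣ ψ := mrev_pow_dvd_of_pow_dvd hsr h0 ⟨ψ₁, hψ₁⟩
  have hdvd₁ : mrev f ^ μ ∣ ψ₁ := by
    have hc : IsCoprime (mrev f ^ μ) (f ^ μ) := (hcop.symm.pow_left).pow_right
    rw [hψ₁] at hdvd'
    exact hc.dvd_of_dvd_mul_left hdvd'
  obtain ⟨ψ', hψ'⟩ := hdvd₁
  have hψeq : ψ = (f * mrev f) ^ μ * ψ' := by
    rw [hψ₁, hψ', mul_pow, mul_assoc]
  have hmon : ((f * mrev f) ^ μ).Monic := (hfm.mul hfm').pow μ
  refine ⟨μ, ψ', hμ, hψeq, ?_, ?_, ?_⟩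
  · exact hmon.of_mul_monic_left (hψeq ▸ hψ)
  · exact SR.of_mul_left (SR.pow (sr_mul_mrev hfm h0) μ) (hψeq ▸ hsr)
  · have h1 : IsCoprime f ψ' := by
      rw [hf.coprime_iff_not_dvd]
      intro h
      apply hnd
      rw [hψ']
      exact dvd_mul_of_dvd_right h _
    have h2 : IsCoprime (mrev f) ψ' := by
      rw [hf'.coprime_iff_not_dvd]
      intro h
      apply hnd'
      have h3 : mrev f ^ (μ + 1) ∣ ψ := by
        obtain ⟨c, hc⟩ := h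
        refine ⟨f ^ μ * c, ?_⟩
        rw [hψ₁, hψ', hc, pow_succ]
        ring
      have h4 := mrev_pow_dvd_of_pow_dvd hsr h0' h3
      rwa [mrev_mrev hfm h0] at h4
    exact (h1.mul_left h2).pow_left

end Cfsg.Agent.Helper94.Eo
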