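import Mathlib
import Cfsg.Agent.Helper94.Eo.Defs

set_option autoImplicit false
set_option linter.unusedSectionVars false
set_option linter.unusedVariables false

/-!
# (LCM) `(q - 1) * lcm_{k ∈ S} (q ^ k + 1) ≤ q ^ (∑ S + 1)` for a finite set `S` of positive integers

(the exponent of a maximal torus `∏ (q ^ k + 1)` of `Sp_{2m}(q)`, `∑ k = m`; extremal case
`S = {1, 2, 4, …, 2 ^ w}`: `(q - 1) ∏ (q ^ (2 ^ v) + 1) = q ^ (2 ^ (w + 1)) - 1`.)

* `prod_bound`: if the `2`-adic valuation is injective on `S` then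
  `∏_{k ∈ S} (1 + x ^ k) ≤ ∏_{v ∈ v₂(S)} (1 + x ^ (2 ^ v)) ≤ ∏_{v ≤ w} (1 + x ^ (2 ^ v)) =
  (1 - x ^ (2 ^ (w + 1))) / (1 - x) ≤ 1 / (1 - x)` with `x = 1 / q` (work in `ℚ`; `k ≥ 2 ^ v₂(k)`);
  multiply by `q ^ ∑ S * (q - 1)`.
* `lp_bound`: strong induction on `S.card`.  If `padicValNat 2` is injective on `S`:
  `Lp q S ≤ ∏ (q ^ k + 1)` (`Finset.lcm` divides the product) and `prod_bound`.  Otherwise pick
  `k ≠ k'` in `S` with the same valuation `v`; `q ^ (2 ^ v) + 1` divides both `q ^ k + 1` and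
  `q ^ k' + 1` (`k / 2 ^ v` odd: `Odd.add_pow_dvd…`/`Odd.nat_add_dvd_pow_add_pow`), hence divides
  `gcd (Lp q (S.erase k')) (q ^ k' + 1)`; so
  `Lp q S * (q + 1) ≤ Lp q S * (q ^ 2 ^ v + 1) ≤ Lp q (S.erase k') * (q ^ k' + 1)
  ≤ Lp q (S.erase k') * q ^ k' * (q + 1)` (`Nat.gcd_mul_lcm`) and the induction hypothesis.

(Proof of `prod_bound` as written below: in `ℕ`, `(q ^ k + 1) * q ^ (2 ^ v) ≤ q ^ k * (q ^ (2 ^ v) + 1)`
for `v = v₂(k)`, and `(q - 1) ∏_{v ∈ V} (q ^ (2 ^ v) + 1) + 1 ≤ q ^ (∑_{v ∈ V} 2 ^ v + 1)` for every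
finite `V` by induction on the maximum.)
-/

namespace Cfsg.Agent.Helper94.Eo

/-- LCM: the bound for a set of distinct powers of two -/
theorem LCM_two_pow_bound {q : ℕ} (hq : 2 ≤ q) (V : Finset ℕ) :
    (q - 1) * ∏ v ∈ V, (q ^ (2 ^ v) + 1) + 1 ≤ q ^ (∑ v ∈ V, 2 ^ v + 1) := by
  induction V using Finset.induction_on_max with
  | empty =>
    simp only [Finset.prod_empty, mul_one, Finset.sum_empty, zero_add, pow_one]
    omega
  | insert w V hlt ih =>
    have hw : w ∉ V := fun h => lt_irrefl w (hlt w h)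
    rw [Finset.prod_insert hw, Finset.sum_insert hw]
    set A := (q - 1) * ∏ v ∈ V, (q ^ (2 ^ v) + 1) with hA
    set N := ∑ v ∈ V, 2 ^ v with hN
    set Q := q ^ (2 ^ w) with hQ
    set B := q ^ (N + 1) with hB
    have hNlt : N < 2 ^ w := Nat.geomSum_lt (le_refl 2) hlt
    have hBQ : B ≤ Q := Nat.pow_le_pow_right (by omega) hNlt
    have hgoal : q ^ (2 ^ w + N + 1) = B * Q := by
      rw [hB, hQ, ← pow_add]
      congr 1
      omega
    rw [hgoal]
    calc (q - 1) * ((Q + 1) * ∏ v ∈ V, (q ^ (2 ^ v) + 1)) + 1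
        = A * Q + (A + 1) := by rw [hA]; ring
      _ ≤ A * Q + B := by omega
      _ ≤ A * Q + Q := by omega
      _ = (A + 1) * Q := by ring
      _ ≤ B * Q := Nat.mul_le_mul_right Q ih

/-- LCM: `2 ^ v₂(k) ≤ k` for `k > 0` -/
theorem LCM_two_pow_val_le {k : ℕ} (hk : 0 < k) : 2 ^ padicValNat 2 k ≤ k :=
  Nat.le_of_dvd hk pow_padicValNat_dvd

theorem prod_bound {q : ℕ} (hq : 2 ≤ q) (S : Finset ℕ) (hS : ∀ k ∈ S, 0 < k)
    (hinj : Set.InjOn (padicValNat 2) (S : Set ℕ)) :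
    (q - 1) * ∏ k ∈ S, (q ^ k + 1) ≤ q ^ (S.sum id + 1) := by
  have hq0 : 0 < q := by omega
  set V : Finset ℕ := S.image (padicValNat 2) with hV
  have hinj' : ∀ x ∈ S, ∀ y ∈ S, padicValNat 2 x = padicValNat 2 y → x = y :=
    fun x hx y hy h => hinj hx hy h
  have hprodV : ∏ v ∈ V, (q ^ (2 ^ v) + 1) = ∏ k ∈ S, (q ^ (2 ^ padicValNat 2 k) + 1) :=
    Finset.prod_image hinj'
  have hsumV : ∑ v ∈ V, 2 ^ v = ∑ k ∈ S, 2 ^ padicValNat 2 k := Finset.sum_image hinj'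
  set N := ∑ k ∈ S, 2 ^ padicValNat 2 k with hN
  -- factorwise comparison
  have hfac : (∏ k ∈ S, (q ^ k + 1)) * q ^ N ≤
      q ^ (S.sum id) * ∏ k ∈ S, (q ^ (2 ^ padicValNat 2 k) + 1) := by
    rw [hN, ← Finset.prod_pow_eq_pow_sum, ← Finset.prod_pow_eq_pow_sum, ← Finset.prod_mul_distrib,
      ← Finset.prod_mul_distrib]
    apply Finset.prod_le_prod'
    intro k hk
    have h1 : q ^ (2 ^ padicValNat 2 k) ≤ q ^ k :=
      Nat.pow_le_pow_right hq0 (LCM_two_pow_val_le (hS k hk))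
    simp only [id]
    calc (q ^ k + 1) * q ^ (2 ^ padicValNat 2 k)
        = q ^ k * q ^ (2 ^ padicValNat 2 k) + q ^ (2 ^ padicValNat 2 k) := by ring
      _ ≤ q ^ k * q ^ (2 ^ padicValNat 2 k) + q ^ k := by omega
      _ = q ^ k * (q ^ (2 ^ padicValNat 2 k) + 1) := by ring
  have hV2 := LCM_two_pow_bound hq V
  rw [hprodV, hsumV] at hV2
  have hpos : 0 < q ^ N := pow_pos hq0 N
  apply Nat.le_of_mul_le_mul_right _ hpos
  calc ((q - 1) * ∏ k ∈ S, (q ^ k + 1)) * q ^ N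
      = (q - 1) * ((∏ k ∈ S, (q ^ k + 1)) * q ^ N) := by ring
    _ ≤ (q - 1) * (q ^ (S.sum id) * ∏ k ∈ S, (q ^ (2 ^ padicValNat 2 k) + 1)) :=
        Nat.mul_le_mul_left _ hfac
    _ = q ^ (S.sum id) * ((q - 1) * ∏ k ∈ S, (q ^ (2 ^ padicValNat 2 k) + 1)) := by ring
    _ ≤ q ^ (S.sum id) * q ^ (N + 1) := Nat.mul_le_mul_left _ (by omega)
    _ = q ^ (S.sum id + 1) * q ^ N := by
        rw [← pow_add, ← pow_add]
        congr 1
        omega

/-- LCM: `q ^ (2 ^ v₂(k)) + 1` divides `q ^ k + 1` -/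
theorem LCM_dvd_pow_add_one (q : ℕ) {k : ℕ} (hk : 0 < k) :
    q ^ (2 ^ padicValNat 2 k) + 1 ∣ q ^ k + 1 := by
  have : Fact (Nat.Prime 2) := ⟨Nat.prime_two⟩
  obtain ⟨m, hm⟩ : 2 ^ padicValNat 2 k ∣ k := pow_padicValNat_dvd
  have hodd : Odd m := by
    rw [← Nat.not_even_iff_odd, even_iff_two_dvd]
    rintro ⟨c, rfl⟩
    apply pow_succ_padicValNat_not_dvd (p := 2) hk.ne'
    exact ⟨c, by rw [pow_succ, mul_assoc]; exact hm⟩
  have h1 := Odd.nat_add_dvd_pow_add_pow (q ^ (2 ^ padicValNat 2 k)) 1 hodd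
  rw [one_pow, ← pow_mul, ← hm] at h1
  exact h1

theorem lp_bound {q : ℕ} (hq : 2 ≤ q) (S : Finset ℕ) (hS : ∀ k ∈ S, 0 < k) :
    (q - 1) * Lp q S ≤ q ^ (S.sum id + 1) := by
  have hq0 : 0 < q := by omega
  induction' hn : S.card using Nat.strong_induction_on with n ih generalizing S
  by_cases hinj : Set.InjOn (padicValNat 2) (S : Set ℕ)
  · -- the lcm is at most the product
    have hdvd : Lp q S ∣ ∏ k ∈ S, (q ^ k + 1) := by
      unfold Lp
      apply Finset.lcm_dvd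
      intro k hk
      exact Finset.dvd_prod_of_mem _ hk
    have hpos : 0 < ∏ k ∈ S, (q ^ k + 1) := Finset.prod_pos (fun k _ => Nat.succ_pos _)
    exact (Nat.mul_le_mul_left _ (Nat.le_of_dvd hpos hdvd)).trans (prod_bound hq S hS hinj)
  · -- two elements with the same valuation
    unfold Set.InjOn at hinj
    push Not at hinj
    obtain ⟨k, hk, k', hk', hval, hne⟩ := hinj
    rw [Finset.mem_coe] at hk hk'
    set T := S.erase k' with hT
    have hkT : k ∈ T := Finset.mem_erase.mpr ⟨hne, hk⟩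
    have hST : S = insert k' T := (Finset.insert_erase hk').symm
    have hLS : Lp q S = Nat.lcm (q ^ k' + 1) (Lp q T) := by
      unfold Lp
      rw [hST, Finset.lcm_insert]
      rfl
    set d := q ^ (2 ^ padicValNat 2 k') + 1 with hd
    have hd1 : d ∣ q ^ k' + 1 := LCM_dvd_pow_add_one q (hS k' hk')
    have hd2 : d ∣ Lp q T := by
      have h1 : q ^ (2 ^ padicValNat 2 k) + 1 ∣ q ^ k + 1 := LCM_dvd_pow_add_one q (hS k hk)
      rw [hval] at h1
      refine h1.trans ?_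
      unfold Lp
      exact Finset.dvd_lcm hkT
    have hdg : d ∣ Nat.gcd (q ^ k' + 1) (Lp q T) := Nat.dvd_gcd hd1 hd2
    have hgpos : 0 < Nat.gcd (q ^ k' + 1) (Lp q T) := Nat.gcd_pos_of_pos_left _ (Nat.succ_pos _)
    have hdle : d ≤ Nat.gcd (q ^ k' + 1) (Lp q T) := Nat.le_of_dvd hgpos hdg
    have hgl := Nat.gcd_mul_lcm (q ^ k' + 1) (Lp q T)
    -- `Lp q S * d ≤ (q ^ k' + 1) * Lp q T`
    have h1 : Lp q S * d ≤ (q ^ k' + 1) * Lp q T := by
      rw [← hgl, hLS, mul_comm]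
      exact Nat.mul_le_mul_right _ hdle
    have hd2' : 2 ≤ d := by
      have : 1 ≤ q ^ (2 ^ padicValNat 2 k') := Nat.one_le_pow _ _ hq0
      omega
    have h2 : q ^ k' + 1 ≤ q ^ k' * d := by
      have : 1 ≤ q ^ k' := Nat.one_le_pow _ _ hq0
      nlinarith
    have h3 : Lp q S * d ≤ (Lp q T * q ^ k') * d := by
      calc Lp q S * d ≤ (q ^ k' + 1) * Lp q T := h1
        _ ≤ (q ^ k' * d) * Lp q T := Nat.mul_le_mul_right _ h2
        _ = (Lp q T * q ^ k') * d := by ring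
    have h4 : Lp q S ≤ Lp q T * q ^ k' := Nat.le_of_mul_le_mul_right h3 (by omega)
    have hcardT : T.card < n := by
      rw [← hn, hT, Finset.card_erase_of_mem hk']
      exact Nat.sub_lt (Finset.card_pos.mpr ⟨k', hk'⟩) one_pos
    have hihT := ih T.card hcardT T (fun x hx => hS x (Finset.mem_of_mem_erase hx)) rfl
    have hsum : S.sum id = T.sum id + k' := by
      rw [hT, ← Finset.sum_erase_add S id hk']
      rfl
    calc (q - 1) * Lp q S ≤ (q - 1) * (Lp q T * q ^ k') := Nat.mul_le_mul_left _ h4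
      _ = ((q - 1) * Lp q T) * q ^ k' := by ring
      _ ≤ q ^ (T.sum id + 1) * q ^ k' := Nat.mul_le_mul_right _ hihT
      _ = q ^ (S.sum id + 1) := by
          rw [← pow_add, hsum]
          congr 1
          omega

end Cfsg.Agent.Helper94.Eo
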