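import Mathlib
import Cfsg.Agent.Helper94.Eo.Defs
import Cfsg.Agent.Helper94.Eo.P_LCM

set_option autoImplicit false
set_option linter.unusedSectionVars false
set_option linter.unusedVariables false

/-!
# (BND) the bound obtained from `OB`

Unpack `OB`; `N := lcm (Lp q S) D ≤ Lp q S * D`, `(q - 1) * Lp q S ≤ q ^ (∑ S + 1)` (`lp_bound`),
`D ≤ q ^ cD`, `P ≤ q ^ cP`, `∑ S + cD + cP ≤ c`.
-/

namespace Cfsg.Agent.Helper94.Eo

open Polynomial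

variable {F : Type*} [Field F]

theorem OB.bound {q : ℕ} (hq : 2 ≤ q) {ψ : F[X]} {c : ℕ} (h : OB q ψ c) :
    ∃ N P : ℕ, 0 < N ∧ 0 < P ∧ ψ ∣ X ^ (N * P) - 1 ∧ (q - 1) * (N * P) ≤ q ^ (c + 1) ∧
      (Odd q → ψ.natDegree ≠ 0 → Even N) := by
  obtain ⟨S, D, P, cD, cP, hS, hD, hP, hdvd, hDle, hPle, hsum, heven⟩ := h
  refine ⟨Nat.lcm (Lp q S) D, P, Nat.lcm_pos (Lp_pos q S) hD, hP, hdvd, ?_, heven⟩
  have h1 : Nat.lcm (Lp q S) D ≤ Lp q S * D :=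
    Nat.le_of_dvd (Nat.mul_pos (Lp_pos q S) hD) (Nat.lcm_dvd_mul _ _)
  have h2 : (q - 1) * Lp q S ≤ q ^ (S.sum id + 1) := lp_bound hq S hS
  calc (q - 1) * (Nat.lcm (Lp q S) D * P) ≤ (q - 1) * (Lp q S * D * P) := by gcongr
    _ = ((q - 1) * Lp q S) * D * P := by ring
    _ ≤ q ^ (S.sum id + 1) * q ^ cD * q ^ cP := by gcongr
    _ = q ^ (S.sum id + cD + cP + 1) := by ring
    _ ≤ q ^ (c + 1) := Nat.pow_le_pow_right (by omega) (by omega)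

end Cfsg.Agent.Helper94.Eo
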