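import Mathlib
import Cfsg.Agent.Helper94.Eo.Defs
import Cfsg.Agent.Helper94.Eo.P_REV

set_option autoImplicit false
set_option linter.unusedSectionVars false
set_option linter.unusedVariables false

/-!
# (CP) the `(X - 1)`- and `(X + 1)`-parts of a self-reciprocal polynomial

* `split_roots`: `a₂ := rootMultiplicity 1 χ`
  (`Polynomial.exists_eq_pow_rootMultiplicity_mul_and_not_dvd`, `X - C 1 = X - 1`); in
  characteristic `2` take `b₂ = 0` (`-1 = 1`); otherwise `b₂ := rootMultiplicity (-1)` of the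
  cofactor (`X - C (-1) = X + 1`).
* `sr_of_split`: `reverse` is multiplicative (`reverse_mul_of_domain`), `reverse_X_sub_one_pow`,
  `reverse_X_add_one_pow`; cancel (`mul_left_cancel₀`); so `ψ.reverse = C ((-1) ^ a₂) * ψ`;
  evaluate at `1` (`ψ.reverse.eval 1 = ψ.eval 1`: both are the sum of the coefficients, e.g.
  `Polynomial.eval₂_reverse_mul_pow` with `x = 1`, or `reverse` as `reflect` + `eval_one`-sum):
  `(-1) ^ a₂ = 1`, so `a₂` is even unless `2 = 0` (`neg_one_pow_eq_one_iff_even`).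
  `ψ.coeff 0 ≠ 0`: else `χ.coeff 0 = 0` but `χ.reverse.coeff 0 = χ.leadingCoeff ≠ 0`.
* `cpart_dvd`: `g ^ a ∣ g ^ (p ^ t)` and `(X ± 1) ^ (p ^ t) = X ^ (p ^ t) ± 1`
  (`sub_pow_char_pow`, `add_pow_char_pow`, `one_pow`).
* `dvd_of_parts`: the three factors are pairwise coprime (`(X + 1) - (X - 1) = 2` is a unit when
  `2 ≠ 0`; `X - C a` is irreducible and does not divide `ψ` when `ψ.eval a ≠ 0`:
  `Polynomial.dvd_iff_isRoot`, `Irreducible.coprime_iff_not_dvd`, `IsCoprime.pow_left`,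
  `IsCoprime.mul_left`), then `IsCoprime.mul_dvd`.
-/

namespace Cfsg.Agent.Helper94.Eo

open Polynomial

variable {F : Type*} [Field F]

theorem CP_X_sub_C_one : (X - C (1 : F) : F[X]) = X - 1 := by rw [C_1]

theorem CP_X_sub_C_neg_one : (X - C (-1 : F) : F[X]) = X + 1 := by
  rw [C_neg, C_1, sub_neg_eq_add]

theorem CP_eval_one_reverse (f : F[X]) : f.reverse.eval 1 = f.eval 1 := by
  let _i : Invertible (1 : F) := invertibleOne
  have h := eval₂_reverse_mul_pow (RingHom.id F) (1 : F) f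
  rw [invOf_one, one_pow, mul_one, eval₂_id, eval₂_id] at h
  exact h

theorem CP_neg_one_ne_one (h2 : (2 : F) ≠ 0) : (-1 : F) ≠ 1 := by
  intro h
  apply h2
  have : (1 : F) + 1 = 0 := by
    nth_rewrite 1 [← h]
    exact neg_add_cancel 1
  rw [← this]
  norm_num

theorem split_roots (χ : F[X]) (hχ : χ.Monic) :
    ∃ (a₂ b₂ : ℕ) (ψ : F[X]), ψ.Monic ∧ χ = (X - 1) ^ a₂ * (X + 1) ^ b₂ * ψ ∧
      ψ.eval 1 ≠ 0 ∧ ψ.eval (-1) ≠ 0 ∧ ((2 : F) = 0 → b₂ = 0) := by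
  obtain ⟨q1, hq1, hnd1⟩ := exists_eq_pow_rootMultiplicity_mul_and_not_dvd χ hχ.ne_zero (1 : F)
  rw [CP_X_sub_C_one] at hq1
  have hq1m : q1.Monic := by
    have hA : ((X - 1 : F[X]) ^ rootMultiplicity 1 χ).Monic := by
      rw [← CP_X_sub_C_one]
      exact (monic_X_sub_C (1 : F)).pow _
    apply hA.of_mul_monic_left
    rw [← hq1]
    exact hχ
  have he1 : q1.eval 1 ≠ 0 := by
    intro h
    apply hnd1
    rw [dvd_iff_isRoot]
    exact h
  by_cases h2 : (2 : F) = 0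
  · refine ⟨rootMultiplicity 1 χ, 0, q1, hq1m, by rw [pow_zero, mul_one]; exact hq1, he1, ?_,
      fun _ => rfl⟩
    have : (-1 : F) = 1 := by
      have h11 : (1 : F) + 1 = 0 := by rw [← h2]; norm_num
      exact neg_eq_of_add_eq_zero_left h11
    rw [this]
    exact he1
  · obtain ⟨q2, hq2, hnd2⟩ :=
      exists_eq_pow_rootMultiplicity_mul_and_not_dvd q1 hq1m.ne_zero (-1 : F)
    rw [CP_X_sub_C_neg_one] at hq2
    have hq2m : q2.Monic := by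
      have hB : ((X + 1 : F[X]) ^ rootMultiplicity (-1) q1).Monic := by
        rw [← CP_X_sub_C_neg_one]
        exact (monic_X_sub_C (-1 : F)).pow _
      apply hB.of_mul_monic_left
      rw [← hq2]
      exact hq1m
    refine ⟨rootMultiplicity 1 χ, rootMultiplicity (-1) q1, q2, hq2m, ?_, ?_, ?_,
      fun h => absurd h h2⟩
    · rw [mul_assoc, ← hq2]
      exact hq1
    · intro h
      apply he1
      rw [hq2, eval_mul, h, mul_zero]
    · intro h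
      apply hnd2
      rw [dvd_iff_isRoot]
      exact h

/-- common core of `sr_of_split` and `sr_of_split_neg` -/
theorem CP_core {χ ψ : F[X]} {a₂ b₂ : ℕ} (hχ : χ ≠ 0) (ε : F) (hε : ε * ε = 1)
    (hrev : χ.reverse = C ε * χ)
    (hfac : χ = (X - 1) ^ a₂ * (X + 1) ^ b₂ * ψ) (h1 : ψ.eval 1 ≠ 0) :
    SR ψ ∧ (-1 : F) ^ a₂ = ε := by
  have hAB : ((X - 1 : F[X]) ^ a₂ * (X + 1) ^ b₂) ≠ 0 := by
    intro h
    apply hχ
    rw [hfac, h, zero_mul]
  have hψ0 : ψ ≠ 0 := by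
    intro h
    apply hχ
    rw [hfac, h, mul_zero]
  have h3 : χ.reverse = ((X - 1 : F[X]) ^ a₂ * (X + 1) ^ b₂) * (C ((-1) ^ a₂) * ψ.reverse) := by
    rw [hfac, reverse_mul_of_domain, reverse_mul_of_domain, reverse_X_sub_one_pow,
      reverse_X_add_one_pow]
    ring
  have h4 : C ((-1 : F) ^ a₂) * ψ.reverse = C ε * ψ := by
    apply mul_left_cancel₀ hAB
    rw [← h3, hrev]
    nth_rewrite 1 [hfac]
    ring
  have hsq : ((-1 : F) ^ a₂) * ((-1 : F) ^ a₂) = 1 := by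
    rw [← mul_pow]
    norm_num
  have h5 : ψ.reverse = C ((-1 : F) ^ a₂ * ε) * ψ := by
    calc ψ.reverse = C ((-1 : F) ^ a₂ * (-1 : F) ^ a₂) * ψ.reverse := by
          rw [hsq, C_1, one_mul]
      _ = C ((-1 : F) ^ a₂) * (C ((-1 : F) ^ a₂) * ψ.reverse) := by
          rw [C_mul, mul_assoc]
      _ = C ((-1 : F) ^ a₂ * ε) * ψ := by
          rw [h4, C_mul, mul_assoc]
  have hc : (-1 : F) ^ a₂ * ε ≠ 0 := by
    intro h
    have h6 : ((-1 : F) ^ a₂ * ε) * ((-1 : F) ^ a₂ * ε) = 1 := by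
      calc ((-1 : F) ^ a₂ * ε) * ((-1 : F) ^ a₂ * ε)
          = ((-1 : F) ^ a₂ * (-1 : F) ^ a₂) * (ε * ε) := by ring
        _ = 1 := by rw [hsq, hε, mul_one]
    rw [h, zero_mul] at h6
    exact zero_ne_one h6
  refine ⟨⟨?_, (-1 : F) ^ a₂ * ε, hc, h5⟩, ?_⟩
  · intro h0
    have h7 := coeff_zero_reverse ψ
    rw [h5, coeff_C_mul, h0, mul_zero] at h7
    exact (leadingCoeff_ne_zero.mpr hψ0) h7.symm
  · have h8 := CP_eval_one_reverse ψ
    rw [h5, eval_mul, eval_C] at h8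
    have h9 : (-1 : F) ^ a₂ * ε = 1 := by
      have : ((-1 : F) ^ a₂ * ε - 1) * ψ.eval 1 = 0 := by
        rw [sub_mul, h8, one_mul, sub_self]
      rcases mul_eq_zero.mp this with h | h
      · exact sub_eq_zero.mp h
      · exact absurd h h1
    calc (-1 : F) ^ a₂ = (-1 : F) ^ a₂ * (ε * ε) := by rw [hε, mul_one]
      _ = ((-1 : F) ^ a₂ * ε) * ε := by ring
      _ = ε := by rw [h9, one_mul]

theorem sr_of_split {χ ψ : F[X]} {a₂ b₂ : ℕ} (hχ : χ ≠ 0) (hrev : χ.reverse = χ)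
    (hfac : χ = (X - 1) ^ a₂ * (X + 1) ^ b₂ * ψ) (h1 : ψ.eval 1 ≠ 0) :
    SR ψ ∧ ((2 : F) ≠ 0 → Even a₂) := by
  obtain ⟨hSR, hpow⟩ := CP_core (a₂ := a₂) (b₂ := b₂) hχ (1 : F) (one_mul 1)
    (by rw [C_1, one_mul]; exact hrev) hfac h1
  refine ⟨hSR, fun h2 => ?_⟩
  exact (neg_one_pow_eq_one_iff_even (CP_neg_one_ne_one h2)).mp hpow

/-- the same for `χ.reverse = - χ` (odd degree, determinant one): now `a₂` is odd -/
theorem sr_of_split_neg {χ ψ : F[X]} {a₂ b₂ : ℕ} (hχ : χ ≠ 0) (hrev : χ.reverse = - χ)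
    (hfac : χ = (X - 1) ^ a₂ * (X + 1) ^ b₂ * ψ) (h1 : ψ.eval 1 ≠ 0) (h2 : (2 : F) ≠ 0) :
    SR ψ ∧ Odd a₂ := by
  obtain ⟨hSR, hpow⟩ := CP_core (a₂ := a₂) (b₂ := b₂) hχ (-1 : F) (by norm_num)
    (by rw [C_neg, C_1, neg_one_mul]; exact hrev) hfac h1
  refine ⟨hSR, ?_⟩
  have h3 : (-1 : F) ^ (a₂ + 1) = 1 := by
    rw [pow_succ, hpow]
    norm_num
  have h4 : Even (a₂ + 1) := (neg_one_pow_eq_one_iff_even (CP_neg_one_ne_one h2)).mp h3
  rcases Nat.even_or_odd a₂ with h | h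
  · exact absurd h4 (Nat.not_even_iff_odd.mpr h.add_one)
  · exact h

theorem cpart_dvd {p : ℕ} [Fact p.Prime] [CharP F p] {a₂ b₂ t : ℕ} (ha : a₂ ≤ p ^ t)
    (hb : b₂ ≤ p ^ t) :
    (X - 1 : F[X]) ^ a₂ ∣ X ^ (p ^ t) - 1 ∧ ((X + 1 : F[X]) ^ b₂ ∣ X ^ (p ^ t) + 1) := by
  constructor
  · have h : (X - 1 : F[X]) ^ (p ^ t) = X ^ (p ^ t) - 1 := by
      rw [sub_pow_char_pow, one_pow]
    rw [← h]
    exact pow_dvd_pow _ ha
  · have h : (X + 1 : F[X]) ^ (p ^ t) = X ^ (p ^ t) + 1 := by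
      rw [add_pow_char_pow, one_pow]
    rw [← h]
    exact pow_dvd_pow _ hb

theorem dvd_of_parts {χ ψ g : F[X]} {a₂ b₂ : ℕ}
    (hfac : χ = (X - 1) ^ a₂ * (X + 1) ^ b₂ * ψ) (h1 : ψ.eval 1 ≠ 0) (hm1 : ψ.eval (-1) ≠ 0)
    (hb : (2 : F) = 0 → b₂ = 0) (hA : (X - 1 : F[X]) ^ a₂ ∣ g) (hB : (X + 1 : F[X]) ^ b₂ ∣ g)
    (hψ : ψ ∣ g) : χ ∣ g := by
  have hc1 : IsCoprime (X - 1 : F[X]) ψ := by
    rw [← CP_X_sub_C_one]
    apply (irreducible_X_sub_C (1 : F)).coprime_iff_not_dvd.mpr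
    rw [dvd_iff_isRoot]
    exact h1
  have hc2 : IsCoprime (X + 1 : F[X]) ψ := by
    rw [← CP_X_sub_C_neg_one]
    apply (irreducible_X_sub_C (-1 : F)).coprime_iff_not_dvd.mpr
    rw [dvd_iff_isRoot]
    exact hm1
  have hc3 : IsCoprime ((X - 1 : F[X]) ^ a₂) ((X + 1 : F[X]) ^ b₂) := by
    by_cases h2 : (2 : F) = 0
    · rw [hb h2, pow_zero]
      exact isCoprime_one_right
    · apply IsCoprime.pow
      rw [← CP_X_sub_C_one, ← CP_X_sub_C_neg_one]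
      apply isCoprime_X_sub_C_of_isUnit_sub
      rw [sub_neg_eq_add]
      have : (1 : F) + 1 = 2 := by norm_num
      rw [this]
      exact IsUnit.mk0 _ h2
  have hAB : (X - 1 : F[X]) ^ a₂ * (X + 1) ^ b₂ ∣ g := hc3.mul_dvd hA hB
  have hc4 : IsCoprime ((X - 1 : F[X]) ^ a₂ * (X + 1) ^ b₂) ψ :=
    IsCoprime.mul_left hc1.pow_left hc2.pow_left
  rw [hfac]
  exact hc4.mul_dvd hAB hψ

end Cfsg.Agent.Helper94.Eo
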