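import Mathlib
import Cfsg.Agent.Helper94.Eo.Defs

set_option autoImplicit false
set_option linter.unusedSectionVars false
set_option linter.unusedVariables false

/-!
# (MUL) `OB` is multiplicative on coprime polynomials; the resulting bound

* `OB.mul`: `S = S₁ ∪ S₂` (`Lp_union`, `Finset.sum_union_le`-type inequality), `D = lcm D₁ D₂ ≤ D₁ D₂`,
  `P = lcm P₁ P₂ ≤ P₁ P₂`; each `lcm (Lp q Sᵢ) Dᵢ * Pᵢ` divides `lcm (Lp q S) D * P`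
  (`X_pow_sub_one_dvd`), and `IsCoprime.mul_dvd`.  Evenness: `natDegree (ψ₁ ψ₂) ≠ 0` forces
  `natDegree ψᵢ ≠ 0` for some `i`, and `lcm (Lp q Sᵢ) Dᵢ ∣ lcm (Lp q S) D`.
* `OB.bound`: unpack, `lp_bound`, `Nat.lcm_le_mul`-type inequality `lcm a b ≤ a * b`.
-/

namespace Cfsg.Agent.Helper94.Eo

open Polynomial

variable {F : Type*} [Field F]

/-- (MUL) auxiliary: `lcm a b ≤ q ^ (ca + cb)` -/
theorem MUL_lcm_le {q a b ca cb : ℕ} (ha0 : 0 < a) (hb0 : 0 < b) (ha : a ≤ q ^ ca)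
    (hb : b ≤ q ^ cb) : Nat.lcm a b ≤ q ^ (ca + cb) := by
  have h1 : Nat.lcm a b ≤ a * b := Nat.le_of_dvd (Nat.mul_pos ha0 hb0) (Nat.lcm_dvd_mul a b)
  calc Nat.lcm a b ≤ a * b := h1
    _ ≤ q ^ ca * q ^ cb := Nat.mul_le_mul ha hb
    _ = q ^ (ca + cb) := (pow_add q ca cb).symm

/-- (MUL) auxiliary: monotonicity of `lcm` for divisibility -/
theorem MUL_lcm_dvd_lcm {a a' b b' : ℕ} (ha : a ∣ a') (hb : b ∣ b') :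
    Nat.lcm a b ∣ Nat.lcm a' b' :=
  Nat.lcm_dvd (ha.trans (Nat.dvd_lcm_left a' b')) (hb.trans (Nat.dvd_lcm_right a' b'))

theorem OB.mul {q : ℕ} (hq : 1 ≤ q) {ψ₁ ψ₂ : F[X]} {c₁ c₂ : ℕ} (hcop : IsCoprime ψ₁ ψ₂)
    (h₁ : OB q ψ₁ c₁) (h₂ : OB q ψ₂ c₂) : OB q (ψ₁ * ψ₂) (c₁ + c₂) := by
  classical
  obtain ⟨S₁, D₁, P₁, cD₁, cP₁, hS₁, hD₁, hP₁, hdvd₁, hDle₁, hPle₁, hsum₁, hev₁⟩ := h₁
  obtain ⟨S₂, D₂, P₂, cD₂, cP₂, hS₂, hD₂, hP₂, hdvd₂, hDle₂, hPle₂, hsum₂, hev₂⟩ := h₂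
  have hL₁ : Lp q S₁ ∣ Lp q (S₁ ∪ S₂) := by rw [Lp_union]; exact Nat.dvd_lcm_left _ _
  have hL₂ : Lp q S₂ ∣ Lp q (S₁ ∪ S₂) := by rw [Lp_union]; exact Nat.dvd_lcm_right _ _
  have hl₁ : Nat.lcm (Lp q S₁) D₁ ∣ Nat.lcm (Lp q (S₁ ∪ S₂)) (Nat.lcm D₁ D₂) :=
    MUL_lcm_dvd_lcm hL₁ (Nat.dvd_lcm_left _ _)
  have hl₂ : Nat.lcm (Lp q S₂) D₂ ∣ Nat.lcm (Lp q (S₁ ∪ S₂)) (Nat.lcm D₁ D₂) :=
    MUL_lcm_dvd_lcm hL₂ (Nat.dvd_lcm_right _ _)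
  refine ⟨S₁ ∪ S₂, Nat.lcm D₁ D₂, Nat.lcm P₁ P₂, cD₁ + cD₂, cP₁ + cP₂, ?_, ?_, ?_, ?_, ?_, ?_,
    ?_, ?_⟩
  · intro k hk
    rcases Finset.mem_union.1 hk with h | h
    · exact hS₁ k h
    · exact hS₂ k h
  · exact Nat.lcm_pos hD₁ hD₂
  · exact Nat.lcm_pos hP₁ hP₂
  · apply hcop.mul_dvd
    · exact hdvd₁.trans (X_pow_sub_one_dvd (Nat.mul_dvd_mul hl₁ (Nat.dvd_lcm_left _ _)))
    · exact hdvd₂.trans (X_pow_sub_one_dvd (Nat.mul_dvd_mul hl₂ (Nat.dvd_lcm_right _ _)))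
  · exact MUL_lcm_le hD₁ hD₂ hDle₁ hDle₂
  · exact MUL_lcm_le hP₁ hP₂ hPle₁ hPle₂
  · have h := Finset.sum_union_inter (s₁ := S₁) (s₂ := S₂) (f := id)
    have h' : (S₁ ∪ S₂).sum id ≤ S₁.sum id + S₂.sum id := by
      rw [← h]; exact Nat.le_add_right _ _
    omega
  · intro hodd hdeg
    have hor : ψ₁.natDegree ≠ 0 ∨ ψ₂.natDegree ≠ 0 := by
      by_contra hcon
      rw [not_or, not_not, not_not] at hcon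
      have := natDegree_mul_le (p := ψ₁) (q := ψ₂)
      rw [hcon.1, hcon.2] at this
      exact hdeg (Nat.le_zero.1 this)
    rcases hor with h | h
    · exact (hev₁ hodd h).trans_dvd hl₁
    · exact (hev₂ hodd h).trans_dvd hl₂

end Cfsg.Agent.Helper94.Eo
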