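import Mathlib
import Cfsg.Agent.Helper94.Eo.Defs
import Cfsg.Agent.Helper94.Eo.P_REV
import Cfsg.Agent.Helper94.Eo.P_MUL
import Cfsg.Agent.Helper94.Eo.P_BLK
import Cfsg.Agent.Helper94.Eo.P_STEP

set_option autoImplicit false
set_option linter.unusedSectionVars false
set_option linter.unusedVariables false

/-!
# Every monic self-reciprocal polynomial prime to `X² - 1` has even degree `2 m'` and is order
bounded with budget `m'` (induction on the degree, splitting off primary blocks)
-/

namespace Cfsg.Agent.Helper94.Eo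

open Polynomial

variable {F : Type*} [Field F] [Fintype F]

theorem not_dvd_sq_sub_one {ψ f : F[X]} (hf : Irreducible f) (hdvd : f ∣ ψ)
    (h1 : ψ.eval 1 ≠ 0) (hm1 : ψ.eval (-1) ≠ 0) : ¬ f ∣ X ^ 2 - 1 := by
  intro h
  have hfac : (X ^ 2 - 1 : F[X]) = (X - C 1) * (X - C (-1)) := by
    simp only [map_neg, map_one, sub_neg_eq_add]; ring
  rw [hfac] at h
  rcases hf.prime.dvd_or_dvd h with h | h
  · have : (X - C (1 : F)) ∣ ψ := by
      have hassoc := (hf.associated_of_dvd (irreducible_X_sub_C (1 : F)) h)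
      exact hassoc.symm.dvd.trans hdvd
    rw [dvd_iff_isRoot] at this
    exact h1 this
  · have : (X - C (-1 : F)) ∣ ψ := by
      have hassoc := (hf.associated_of_dvd (irreducible_X_sub_C (-1 : F)) h)
      exact hassoc.symm.dvd.trans hdvd
    rw [dvd_iff_isRoot] at this
    exact hm1 this

theorem card_pos' : 1 ≤ Fintype.card F := Fintype.card_pos

theorem ob_of_sr : ∀ (n : ℕ) (ψ : F[X]), ψ.natDegree = n → ψ.Monic → SR ψ → ψ.eval 1 ≠ 0 →
    ψ.eval (-1) ≠ 0 → ∃ m' : ℕ, n = 2 * m' ∧ OB (Fintype.card F) ψ m' := by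
  intro n
  induction n using Nat.strong_induction_on with
  | _ n ih =>
    intro ψ hn hψ hsr h1 hm1
    by_cases hn0 : n = 0
    · subst hn0
      have : ψ = 1 := by
        have := eq_C_of_natDegree_eq_zero hn
        rw [this]
        have hl := hψ.leadingCoeff
        rw [leadingCoeff, hn] at hl
        rw [hl, map_one]
      rw [this]
      exact ⟨0, rfl, OB_one _⟩
    · have hnu : ¬ IsUnit ψ := by
        intro hu
        exact hn0 (hn ▸ natDegree_eq_zero_of_isUnit hu)
      obtain ⟨f, hfm, hf, hdvd⟩ := exists_monic_irreducible_factor ψ hnu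
      have hψ0 : ψ ≠ 0 := hψ.ne_zero
      have hf0 : f.coeff 0 ≠ 0 := by
        intro h0
        have hX : (X : F[X]) ∣ f := by
          rw [X_dvd_iff]; exact h0
        have := hX.trans hdvd
        rw [X_dvd_iff] at this
        exact hsr.1 this
      have hf2 : ¬ f ∣ X ^ 2 - 1 := not_dvd_sq_sub_one hf hdvd h1 hm1
      have hdegf : 0 < f.natDegree := hf.natDegree_pos
      by_cases hrev : mrev f = f
      · obtain ⟨μ, ψ', hμ, hfac, hψ', hsr', hcop⟩ := step_A hψ hsr hf hfm hdvd hrev
        obtain ⟨k, hk, hdeg, hob⟩ := ob_blockA hf (sr_of_mrev_eq hf0 hrev) hf2 hμ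
        have hdegψ : ψ.natDegree = μ * f.natDegree + ψ'.natDegree := by
          rw [hfac, (hfm.pow μ).natDegree_mul hψ', hfm.natDegree_pow]
        have hlt : ψ'.natDegree < n := by
          rw [← hn, hdegψ]
          have : 0 < μ * f.natDegree := Nat.mul_pos hμ hdegf
          omega
        have h1' : ψ'.eval 1 ≠ 0 := by
          intro h; apply h1; rw [hfac, eval_mul, h, mul_zero]
        have hm1' : ψ'.eval (-1) ≠ 0 := by
          intro h; apply hm1; rw [hfac, eval_mul, h, mul_zero]
        obtain ⟨m'', hm'', hob'⟩ := ih _ hlt ψ' rfl hψ' hsr' h1' hm1'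
        refine ⟨k * μ + m'', ?_, ?_⟩
        · rw [← hn, hdegψ, hm'', hdeg]; ring
        · rw [hfac]
          exact OB.mul card_pos' hcop hob hob'
      · obtain ⟨μ, ψ', hμ, hfac, hψ', hsr', hcop⟩ := step_B hψ hsr hf hfm hdvd hrev
        have hob := ob_blockB hf hfm hf0 hrev hμ
        have hmm : (mrev f).Monic := mrev_monic hf0
        have hdegψ : ψ.natDegree = μ * (2 * f.natDegree) + ψ'.natDegree := by
          rw [hfac, ((hfm.mul hmm).pow μ).natDegree_mul hψ', (hfm.mul hmm).natDegree_pow,
            hfm.natDegree_mul hmm, mrev_natDegree hf0]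
          ring
        have hlt : ψ'.natDegree < n := by
          rw [← hn, hdegψ]
          have : 0 < μ * (2 * f.natDegree) := Nat.mul_pos hμ (by omega)
          omega
        have h1' : ψ'.eval 1 ≠ 0 := by
          intro h; apply h1; rw [hfac, eval_mul, h, mul_zero]
        have hm1' : ψ'.eval (-1) ≠ 0 := by
          intro h; apply hm1; rw [hfac, eval_mul, h, mul_zero]
        obtain ⟨m'', hm'', hob'⟩ := ih _ hlt ψ' rfl hψ' hsr' h1' hm1'
        refine ⟨f.natDegree * μ + m'', ?_, ?_⟩
        · rw [← hn, hdegψ, hm'']; ring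
        · rw [hfac]
          exact OB.mul card_pos' hcop hob hob'

end Cfsg.Agent.Helper94.Eo
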