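import Mathlib
import Cfsg.Agent.Helper94.Eo.Str
import Cfsg.Agent.Helper94.Eo.P_BND
import Cfsg.Agent.Helper94.Eo.P_CP
import Cfsg.Agent.Helper94.Eo.P_NUM

set_option autoImplicit false
set_option linter.unusedSectionVars false
set_option linter.unusedVariables false

/-!
# The exponent bound for self-reciprocal polynomials of even degree (assembly)
-/

namespace Cfsg.Agent.Helper94.Eo

open Polynomial

variable {F : Type*} [Field F] [Fintype F]

theorem two_le_card : 2 ≤ Fintype.card F := Fintype.one_lt_card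

theorem odd_card_of_two_ne_zero (h2 : (2 : F) ≠ 0) : Odd (Fintype.card F) := by
  rw [Nat.odd_iff]
  apply FiniteField.odd_card_of_char_ne_two
  intro h
  apply h2
  have := CharP.cast_eq_zero F (ringChar F)
  rw [h] at this
  exact_mod_cast this

/-- `q = p ^ f` for `p = ringChar F` -/
theorem card_eq_pow : ∃ f : ℕ, 1 ≤ f ∧ Fintype.card F = ringChar F ^ f ∧ (ringChar F).Prime := by
  have : Fact (ringChar F).Prime := ⟨CharP.char_is_prime F _⟩
  obtain ⟨n, hp, hn⟩ := FiniteField.card F (ringChar F)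
  exact ⟨n, n.pos, hn, hp⟩

/-- the `p`-power needed for the `(X ∓ 1)`-parts -/
theorem exists_pc (a b : ℕ) : ∃ t : ℕ, 2 * a ≤ ringChar F ^ t ∧ 2 * b ≤ ringChar F ^ t ∧
    ringChar F ^ t ≤ Fintype.card F ^ max a b := by
  obtain ⟨f, hf, hq, hp⟩ := card_eq_pow (F := F)
  by_cases h0 : max a b = 0
  · have ha : a = 0 := by omega
    have hb : b = 0 := by omega
    exact ⟨0, by simp [ha], by simp [hb], by simp [h0]⟩
  · refine ⟨Nat.clog (ringChar F) (2 * max a b), ?_, ?_, ?_⟩
    · exact (Nat.mul_le_mul_left 2 (le_max_left a b)).trans (le_pow_clog hp.two_le _)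
    · exact (Nat.mul_le_mul_left 2 (le_max_right a b)).trans (le_pow_clog hp.two_le _)
    · exact pow_clog_two_mul_le hp.two_le hf hq (by omega)

theorem X_pow_add_one_dvd {K : ℕ} : (X ^ K + 1 : F[X]) ∣ X ^ (2 * K) - 1 := by
  refine ⟨X ^ K - 1, ?_⟩
  ring

theorem exists_exponent (χ : F[X]) (hχ : χ.Monic) (m : ℕ) (hdeg : χ.natDegree = 2 * m)
    (hrev : χ.reverse = χ) :
    ∃ K : ℕ, 0 < K ∧ (Fintype.card F - 1) * K ≤ Fintype.card F ^ (m + 1) ∧
      (χ ∣ X ^ K - 1 ∨ χ ∣ X ^ K + 1) := by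
  have : Fact (ringChar F).Prime := ⟨CharP.char_is_prime F _⟩
  have hq2 := two_le_card (F := F)
  obtain ⟨a₂, b₂, ψ, hψm, hfac, h1, hm1, hb0⟩ := split_roots χ hχ
  obtain ⟨hsr, heven⟩ := sr_of_split hχ.ne_zero hrev hfac h1
  obtain ⟨m', hdeg', hob⟩ := ob_of_sr _ ψ rfl hψm hsr h1 hm1
  have hXs : (X - 1 : F[X]) = X - C 1 := by rw [map_one]
  have hXa : (X + 1 : F[X]) = X + C 1 := by rw [map_one]
  have hmon1 : ((X - 1 : F[X]) ^ a₂).Monic := by
    rw [hXs]; exact (monic_X_sub_C (1 : F)).pow a₂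
  have hmon2 : ((X + 1 : F[X]) ^ b₂).Monic := by
    rw [hXa]; exact (monic_X_add_C (1 : F)).pow b₂
  have hd1 : ((X - 1 : F[X]) ^ a₂).natDegree = a₂ := by
    rw [hXs, (monic_X_sub_C (1 : F)).natDegree_pow, natDegree_X_sub_C, mul_one]
  have hd2 : ((X + 1 : F[X]) ^ b₂).natDegree = b₂ := by
    rw [hXa, (monic_X_add_C (1 : F)).natDegree_pow, natDegree_X_add_C, mul_one]
  have hsum : 2 * m = a₂ + b₂ + 2 * m' := by
    rw [← hdeg, hfac, (hmon1.mul hmon2).natDegree_mul hψm, hmon1.natDegree_mul hmon2, hd1, hd2,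
      hdeg']
  -- both multiplicities are even
  obtain ⟨a, b, ha, hb, hb0'⟩ : ∃ a b : ℕ, a₂ = 2 * a ∧ b₂ = 2 * b ∧ ((2 : F) = 0 → b = 0) := by
    by_cases h2 : (2 : F) = 0
    · have hb := hb0 h2
      refine ⟨a₂ / 2, 0, by omega, by omega, fun _ => rfl⟩
    · obtain ⟨a, ha⟩ := heven h2
      refine ⟨a, b₂ / 2, by omega, by omega, fun h => absurd h h2⟩
  have hm : m = a + b + m' := by omega
  obtain ⟨t, hta, htb, htq⟩ := exists_pc (F := F) a b
  have hcp := cpart_dvd (F := F) (p := ringChar F) (a₂ := a₂) (b₂ := b₂) (t := t)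
    (by rw [ha]; exact hta) (by rw [hb]; exact htb)
  set PC := ringChar F ^ t with hPC
  have hPCpos : 0 < PC := pow_pos (CharP.char_is_prime F _).pos t
  have hqpos : 0 < Fintype.card F := by omega
  have hmaxle : max a b ≤ a + b := by omega
  by_cases hm' : m' = 0
  · -- no other factors
    have hψ1 : ψ = 1 := by
      rw [hm', mul_zero] at hdeg'
      have := eq_C_of_natDegree_eq_zero hdeg'
      rw [this]
      have hl := hψm.leadingCoeff
      rw [leadingCoeff, hdeg'] at hl
      rw [hl, map_one]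
    rw [hψ1, mul_one] at hfac
    have hPCm : PC ≤ Fintype.card F ^ m :=
      htq.trans (Nat.pow_le_pow_right hqpos (by omega))
    have hbnd : ∀ K : ℕ, K ≤ Fintype.card F ^ m →
        (Fintype.card F - 1) * K ≤ Fintype.card F ^ (m + 1) := by
      intro K hK
      calc (Fintype.card F - 1) * K ≤ Fintype.card F * Fintype.card F ^ m :=
            Nat.mul_le_mul (Nat.sub_le _ _) hK
        _ = Fintype.card F ^ (m + 1) := by rw [pow_succ, mul_comm]
    by_cases hb0'' : b = 0
    · refine ⟨PC, hPCpos, hbnd _ hPCm, Or.inl ?_⟩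
      rw [hfac, hb, hb0'', mul_zero, pow_zero, mul_one]
      exact hcp.1
    by_cases ha0 : a = 0
    · refine ⟨PC, hPCpos, hbnd _ hPCm, Or.inr ?_⟩
      rw [hfac, ha, ha0, mul_zero, pow_zero, one_mul]
      exact hcp.2
    · refine ⟨2 * PC, by omega, hbnd _ ?_, Or.inl ?_⟩
      · have h1' : 2 * PC ≤ Fintype.card F ^ min a b * Fintype.card F ^ max a b := by
          apply Nat.mul_le_mul _ htq
          calc 2 ≤ Fintype.card F := hq2
            _ = Fintype.card F ^ 1 := (pow_one _).symm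
            _ ≤ Fintype.card F ^ min a b := Nat.pow_le_pow_right hqpos (by omega)
        rw [← pow_add] at h1'
        have : min a b + max a b = m := by omega
        rwa [this] at h1'
      · rw [hfac]
        have hfacK : (X ^ (2 * PC) - 1 : F[X]) = (X ^ PC - 1) * (X ^ PC + 1) := by ring
        rw [hfacK]
        exact mul_dvd_mul hcp.1 hcp.2
  · -- general case
    obtain ⟨N, P, hN, hP, hdvd, hbound, hevenN⟩ := hob.bound hq2
    have hψdeg : ψ.natDegree ≠ 0 := by omega
    refine ⟨N * P * PC, by positivity, ?_, Or.inl ?_⟩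
    · calc (Fintype.card F - 1) * (N * P * PC)
          = (Fintype.card F - 1) * (N * P) * PC := by ring
        _ ≤ Fintype.card F ^ (m' + 1) * Fintype.card F ^ (a + b) :=
            Nat.mul_le_mul hbound (htq.trans (Nat.pow_le_pow_right hqpos hmaxle))
        _ = Fintype.card F ^ (m + 1) := by rw [← pow_add]; congr 1; omega
    · apply dvd_of_parts hfac h1 hm1 hb0
      · exact hcp.1.trans (X_pow_sub_one_dvd (Dvd.intro_left _ rfl))
      · by_cases h2 : (2 : F) = 0
        · rw [hb0 h2, pow_zero]; exact one_dvd _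
        · obtain ⟨N', hN'⟩ := hevenN (odd_card_of_two_ne_zero h2) hψdeg
          refine hcp.2.trans (X_pow_add_one_dvd.trans (X_pow_sub_one_dvd ?_))
          exact ⟨N' * P, by rw [hN']; ring⟩
      · exact hdvd.trans (X_pow_sub_one_dvd (Dvd.intro _ rfl))

end Cfsg.Agent.Helper94.Eo
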