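import Mathlib
import Cfsg.Agent.Helper94.Eo.Fin

set_option autoImplicit false
set_option linter.unusedSectionVars false
set_option linter.unusedVariables false

/-!
# The exponent bound for polynomials with `χ.reverse = -χ` of odd degree `2 m + 1`, `m ≥ 3`, odd
characteristic (assembly)
-/

namespace Cfsg.Agent.Helper94.Eo

open Polynomial

variable {F : Type*} [Field F] [Fintype F]

theorem three_le_ringChar (h2 : (2 : F) ≠ 0) : 3 ≤ ringChar F := by
  have hp : (ringChar F).Prime := CharP.char_is_prime F _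
  have hne : ringChar F ≠ 2 := by
    intro h
    apply h2
    have := CharP.cast_eq_zero F (ringChar F)
    rw [h] at this
    exact_mod_cast this
  have := hp.two_le
  omega

/-- the `p`-power needed for the `(X ∓ 1)`-parts, odd case -/
theorem exists_pc_odd (h2 : (2 : F) ≠ 0) (a b : ℕ) :
    ∃ t : ℕ, 2 * a + 1 ≤ ringChar F ^ t ∧ 2 * b ≤ ringChar F ^ t ∧
      ringChar F ^ t ≤ Fintype.card F ^ max a b ∧
      (a = 0 → t = Nat.clog (ringChar F) (2 * b)) := by
  obtain ⟨f, hf, hq, hp⟩ := card_eq_pow (F := F)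
  have hp3 := three_le_ringChar h2
  by_cases hab : a < b
  · refine ⟨Nat.clog (ringChar F) (2 * b), ?_, le_pow_clog hp.two_le _, ?_, fun _ => rfl⟩
    · exact (by omega : 2 * a + 1 ≤ 2 * b).trans (le_pow_clog hp.two_le _)
    · rw [max_eq_right hab.le]
      exact pow_clog_two_mul_le hp.two_le hf hq (by omega)
  · have hba : b ≤ a := by omega
    by_cases ha0 : a = 0
    · have hb0 : b = 0 := by omega
      refine ⟨0, by simp [ha0], by simp [hb0], by simp [ha0, hb0], ?_⟩
      intro _
      rw [hb0, mul_zero, Nat.clog_zero_right]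
    · refine ⟨Nat.clog (ringChar F) (2 * a + 1), le_pow_clog hp.two_le _, ?_, ?_,
        fun h => absurd h ha0⟩
      · exact (by omega : 2 * b ≤ 2 * a + 1).trans (le_pow_clog hp.two_le _)
      · rw [max_eq_left hba]
        exact pow_clog_odd_le hp3 hf hq (by omega)

theorem exists_exponent_odd (h2 : (2 : F) ≠ 0) (χ : F[X]) (hχ : χ.Monic) (m : ℕ) (hm3 : 3 ≤ m)
    (hdeg : χ.natDegree = 2 * m + 1) (hrev : χ.reverse = -χ) :
    ∃ K : ℕ, 0 < K ∧ (Fintype.card F - 1) * K ≤ Fintype.card F ^ (m + 1) ∧ χ ∣ X ^ K - 1 := by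
  have : Fact (ringChar F).Prime := ⟨CharP.char_is_prime F _⟩
  have hq2 := two_le_card (F := F)
  obtain ⟨a₂, b₂, ψ, hψm, hfac, h1, hm1, hb0⟩ := split_roots χ hχ
  obtain ⟨hsr, hodd⟩ := sr_of_split_neg hχ.ne_zero hrev hfac h1 h2
  obtain ⟨m', hdeg', hob⟩ := ob_of_sr _ ψ rfl hψm hsr h1 hm1
  have hXs : (X - 1 : F[X]) = X - C 1 := by rw [map_one]
  have hXa : (X + 1 : F[X]) = X + C 1 := by rw [map_one]
  have hmon1 : ((X - 1 : F[X]) ^ a₂).Monic := by
    rw [hXs]; exact (monic_X_sub_C (1 : F)).pow a₂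
  have hmon2 : ((X + 1 : F[X]) ^ b₂).Monic := by
    rw [hXa]; exact (monic_X_add_C (1 : F)).pow b₂
  have hd1 : ((X - 1 : F[X]) ^ a₂).natDegree = a₂ := by
    rw [hXs, (monic_X_sub_C (1 : F)).natDegree_pow, natDegree_X_sub_C, mul_one]
  have hd2 : ((X + 1 : F[X]) ^ b₂).natDegree = b₂ := by
    rw [hXa, (monic_X_add_C (1 : F)).natDegree_pow, natDegree_X_add_C, mul_one]
  have hsum : 2 * m + 1 = a₂ + b₂ + 2 * m' := by
    rw [← hdeg, hfac, (hmon1.mul hmon2).natDegree_mul hψm, hmon1.natDegree_mul hmon2, hd1, hd2,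
      hdeg']
  obtain ⟨a, ha⟩ := hodd
  obtain ⟨b, hb⟩ : ∃ b : ℕ, b₂ = 2 * b := ⟨b₂ / 2, by omega⟩
  have hm : m = a + b + m' := by omega
  obtain ⟨t, hta, htb, htq, ht0⟩ := exists_pc_odd h2 a b
  have hcp := cpart_dvd (F := F) (p := ringChar F) (a₂ := a₂) (b₂ := b₂) (t := t)
    (by rw [ha]; exact hta) (by rw [hb]; exact htb)
  set PC := ringChar F ^ t with hPC
  have hPCpos : 0 < PC := pow_pos (CharP.char_is_prime F _).pos t
  have hqpos : 0 < Fintype.card F := by omega
  have hmaxle : max a b ≤ a + b := by omega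
  by_cases hm' : m' = 0
  · -- no other factors
    have hψ1 : ψ = 1 := by
      rw [hm', mul_zero] at hdeg'
      have := eq_C_of_natDegree_eq_zero hdeg'
      rw [this]
      have hl := hψm.leadingCoeff
      rw [leadingCoeff, hdeg'] at hl
      rw [hl, map_one]
    rw [hψ1, mul_one] at hfac
    have hPCm : PC ≤ Fintype.card F ^ m :=
      htq.trans (Nat.pow_le_pow_right hqpos (by omega))
    have hbnd : ∀ K : ℕ, K ≤ Fintype.card F ^ m →
        (Fintype.card F - 1) * K ≤ Fintype.card F ^ (m + 1) := by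
      intro K hK
      calc (Fintype.card F - 1) * K ≤ Fintype.card F * Fintype.card F ^ m :=
            Nat.mul_le_mul (Nat.sub_le _ _) hK
        _ = Fintype.card F ^ (m + 1) := by rw [pow_succ, mul_comm]
    have hfacK : (X ^ (2 * PC) - 1 : F[X]) = (X ^ PC - 1) * (X ^ PC + 1) := by ring
    by_cases hb0'' : b = 0
    · refine ⟨PC, hPCpos, hbnd _ hPCm, ?_⟩
      rw [hfac, hb, hb0'', mul_zero, pow_zero, mul_one]
      exact hcp.1
    by_cases ha0 : a = 0
    · -- `(X - 1) (X + 1) ^ (2 m)`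
      obtain ⟨f, hf, hq, hp⟩ := card_eq_pow (F := F)
      have hbm : b = m := by omega
      refine ⟨2 * PC, by omega, ?_, ?_⟩
      · rw [hPC, ht0 ha0, hbm]
        exact two_pow_clog_bound (three_le_ringChar h2) hf hq hm3
      · rw [hfac, hfacK]
        exact mul_dvd_mul hcp.1 hcp.2
    · refine ⟨2 * PC, by omega, hbnd _ ?_, ?_⟩
      · have h1' : 2 * PC ≤ Fintype.card F ^ min a b * Fintype.card F ^ max a b := by
          apply Nat.mul_le_mul _ htq
          calc 2 ≤ Fintype.card F := hq2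
            _ = Fintype.card F ^ 1 := (pow_one _).symm
            _ ≤ Fintype.card F ^ min a b := Nat.pow_le_pow_right hqpos (by omega)
        rw [← pow_add] at h1'
        have : min a b + max a b = m := by omega
        rwa [this] at h1'
      · rw [hfac, hfacK]
        exact mul_dvd_mul hcp.1 hcp.2
  · -- general case
    obtain ⟨N, P, hN, hP, hdvd, hbound, hevenN⟩ := hob.bound hq2
    have hψdeg : ψ.natDegree ≠ 0 := by omega
    refine ⟨N * P * PC, by positivity, ?_, ?_⟩
    · calc (Fintype.card F - 1) * (N * P * PC)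
          = (Fintype.card F - 1) * (N * P) * PC := by ring
        _ ≤ Fintype.card F ^ (m' + 1) * Fintype.card F ^ (a + b) :=
            Nat.mul_le_mul hbound (htq.trans (Nat.pow_le_pow_right hqpos hmaxle))
        _ = Fintype.card F ^ (m + 1) := by rw [← pow_add]; congr 1; omega
    · apply dvd_of_parts hfac h1 hm1 hb0
      · exact hcp.1.trans (X_pow_sub_one_dvd (Dvd.intro_left _ rfl))
      · obtain ⟨N', hN'⟩ := hevenN (odd_card_of_two_ne_zero h2) hψdeg
        refine hcp.2.trans (X_pow_add_one_dvd.trans (X_pow_sub_one_dvd ?_))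
        exact ⟨N' * P, by rw [hN']; ring⟩
      · exact hdvd.trans (X_pow_sub_one_dvd (Dvd.intro _ rfl))

end Cfsg.Agent.Helper94.Eo
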