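import Mathlib
import Cfsg.Prelude.Def_Classical

set_option autoImplicit false
set_option linter.unusedSectionVars false
set_option linter.unusedVariables false

/-!
# (QUOT) the order of the image in `PSp` / `PΩ` of an element with `g ^ K = ± 1`

`g ^ K` is then a scalar matrix, so it commutes with everything and lies in the centre of the
group (`Subgroup.mem_center_iff`, `Subtype.ext`; for `-1`: `neg_mul`, `mul_neg`); hence
`(mk g) ^ K = mk (g ^ K) = 1` (`QuotientGroup.eq_one_iff`) and `orderOf_le_of_pow_eq_one`.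
-/

namespace Cfsg.Agent.Helper94.Eo

variable {F : Type*} [Field F]

theorem QUOT_orderOf_mk_le {Γ : Type*} [Group Γ] (g : Γ) {K : ℕ} (hK : 0 < K)
    (hc : g ^ K ∈ Subgroup.center Γ) :
    orderOf (QuotientGroup.mk g : Γ ⧸ Subgroup.center Γ) ≤ K := by
  apply orderOf_le_of_pow_eq_one hK
  rw [← QuotientGroup.mk_pow]
  exact (QuotientGroup.eq_one_iff _).mpr hc

theorem psp_orderOf_le {m : ℕ} (g : Matrix.symplecticGroup (Fin m) F) {K : ℕ} (hK : 0 < K)
    (h : (g : Matrix (Fin m ⊕ Fin m) (Fin m ⊕ Fin m) F) ^ K = 1 ∨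
      (g : Matrix (Fin m ⊕ Fin m) (Fin m ⊕ Fin m) F) ^ K = -1) :
    orderOf (QuotientGroup.mk g : Cfsg.PSp m F) ≤ K := by
  apply QUOT_orderOf_mk_le g hK
  rw [Subgroup.mem_center_iff]
  intro x
  apply Subtype.ext
  simp only [Submonoid.coe_mul, SubmonoidClass.coe_pow]
  rcases h with h | h
  · rw [h, mul_one, one_mul]
  · rw [h, mul_neg, neg_mul, mul_one, one_mul]

theorem pomega_orderOf_le {ι : Type} [Fintype ι] [DecidableEq ι] (Q : (ι → F) → F)
    (g : Cfsg.Omega F Q) {K : ℕ} (hK : 0 < K)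
    (h : (((g : Cfsg.isometryGroup F Q) : Matrix.GeneralLinearGroup ι F) : Matrix ι ι F) ^ K = 1 ∨
      (((g : Cfsg.isometryGroup F Q) : Matrix.GeneralLinearGroup ι F) : Matrix ι ι F) ^ K = -1) :
    orderOf (QuotientGroup.mk g : Cfsg.POmega F Q) ≤ K := by
  apply QUOT_orderOf_mk_le g hK
  rw [Subgroup.mem_center_iff]
  intro x
  apply Subtype.ext
  apply Subtype.ext
  apply Units.ext
  simp only [Subgroup.coe_mul, Subgroup.coe_pow, Units.val_mul, Units.val_pow_eq_pow_val]
  rcases h with h | h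
  · rw [h, mul_one, one_mul]
  · rw [h, mul_neg, neg_mul, mul_one, one_mul]

end Cfsg.Agent.Helper94.Eo
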