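import Mathlib
import Cfsg.Agent.Helper94.Eo.FinOdd
import Cfsg.Agent.Helper94.Eo.P_QUOT
import Cfsg.Agent.Helper94.Eo.P_CHAR

set_option autoImplicit false
set_option linter.unusedSectionVars false
set_option linter.unusedVariables false

/-!
# Element orders in `PΩ(Q)` for a quadratic form whose polar form has an invertible Gram matrix
(assembly)
-/

namespace Cfsg.Agent.Helper94.Eo

open Polynomial Matrix

variable {F : Type*} [Field F] [Fintype F]

theorem omega_charpoly {ι : Type} [Fintype ι] [DecidableEq ι] (Q : (ι → F) → F)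
    (B : Matrix ι ι F) (hB : B.det ≠ 0)
    (hpolar : ∀ u v : ι → F, Q (u + v) - Q u - Q v = u ⬝ᵥ B *ᵥ v) (g : Cfsg.Omega F Q) :
    (((g : Cfsg.isometryGroup F Q) : Matrix.GeneralLinearGroup ι F) : Matrix ι ι F).charpoly.reverse
      = C ((-1) ^ Fintype.card ι) *
        (((g : Cfsg.isometryGroup F Q) : Matrix.GeneralLinearGroup ι F) : Matrix ι ι F).charpoly := by
  have hgram := gram_of_isometry Q B hpolar _ (isometry_of_mem Q (g : Cfsg.isometryGroup F Q))
  have h := (charpoly_reverse_of_gram _ B hB hgram).2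
  rw [det_eq_one_of_mem_Omega Q g, one_mul] at h
  exact h

theorem pow_eq_of_dvd {ι : Type} [Fintype ι] [DecidableEq ι] (A : Matrix ι ι F) {K : ℕ}
    (h : A.charpoly ∣ X ^ K - 1 ∨ A.charpoly ∣ X ^ K + 1) : A ^ K = 1 ∨ A ^ K = -1 := by
  have hCH : aeval A A.charpoly = 0 := Matrix.aeval_self_charpoly A
  rcases h with ⟨c, hc⟩ | ⟨c, hc⟩
  · left
    have := congrArg (aeval A) hc
    rw [map_mul, hCH, zero_mul, map_sub, map_pow, aeval_X, map_one] at this
    exact sub_eq_zero.mp this
  · right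
    have := congrArg (aeval A) hc
    rw [map_mul, hCH, zero_mul, map_add, map_pow, aeval_X, map_one] at this
    exact eq_neg_of_add_eq_zero_left this

/-- even dimension `2 m` -/
theorem pomega_bound_even {ι : Type} [Fintype ι] [DecidableEq ι] (Q : (ι → F) → F)
    (B : Matrix ι ι F) (hB : B.det ≠ 0)
    (hpolar : ∀ u v : ι → F, Q (u + v) - Q u - Q v = u ⬝ᵥ B *ᵥ v) (m : ℕ)
    (hcard : Fintype.card ι = 2 * m) (g : Cfsg.POmega F Q) :
    (Fintype.card F - 1) * orderOf g ≤ Fintype.card F ^ (m + 1) := by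
  obtain ⟨g, rfl⟩ := QuotientGroup.mk_surjective g
  set A : Matrix ι ι F :=
    (((g : Cfsg.isometryGroup F Q) : Matrix.GeneralLinearGroup ι F) : Matrix ι ι F) with hA
  have hdeg : A.charpoly.natDegree = 2 * m := by
    rw [Matrix.charpoly_natDegree_eq_dim, hcard]
  have hrev : A.charpoly.reverse = A.charpoly := by
    have := omega_charpoly Q B hB hpolar g
    rw [hcard, pow_mul, neg_one_sq, one_pow, map_one, one_mul] at this
    exact this
  obtain ⟨K, hK, hbound, hdvd⟩ := exists_exponent A.charpoly (Matrix.charpoly_monic A) m hdeg hrev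
  have hle := pomega_orderOf_le Q g hK (pow_eq_of_dvd A hdvd)
  calc (Fintype.card F - 1) * orderOf (QuotientGroup.mk g : Cfsg.POmega F Q)
      ≤ (Fintype.card F - 1) * K := Nat.mul_le_mul_left _ hle
    _ ≤ Fintype.card F ^ (m + 1) := hbound

/-- odd dimension `2 m + 1`, odd characteristic, `m ≥ 3` -/
theorem pomega_bound_odd {ι : Type} [Fintype ι] [DecidableEq ι] (h2 : (2 : F) ≠ 0)
    (Q : (ι → F) → F) (B : Matrix ι ι F) (hB : B.det ≠ 0)
    (hpolar : ∀ u v : ι → F, Q (u + v) - Q u - Q v = u ⬝ᵥ B *ᵥ v) (m : ℕ) (hm : 3 ≤ m)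
    (hcard : Fintype.card ι = 2 * m + 1) (g : Cfsg.POmega F Q) :
    (Fintype.card F - 1) * orderOf g ≤ Fintype.card F ^ (m + 1) := by
  obtain ⟨g, rfl⟩ := QuotientGroup.mk_surjective g
  set A : Matrix ι ι F :=
    (((g : Cfsg.isometryGroup F Q) : Matrix.GeneralLinearGroup ι F) : Matrix ι ι F) with hA
  have hdeg : A.charpoly.natDegree = 2 * m + 1 := by
    rw [Matrix.charpoly_natDegree_eq_dim, hcard]
  have hrev : A.charpoly.reverse = -A.charpoly := by
    have := omega_charpoly Q B hB hpolar g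
    rw [hcard, pow_succ, pow_mul, neg_one_sq, one_pow, one_mul, map_neg, map_one, neg_one_mul]
      at this
    exact this
  obtain ⟨K, hK, hbound, hdvd⟩ := exists_exponent_odd h2 A.charpoly (Matrix.charpoly_monic A) m hm
    hdeg hrev
  have hle := pomega_orderOf_le Q g hK (pow_eq_of_dvd A (Or.inl hdvd))
  calc (Fintype.card F - 1) * orderOf (QuotientGroup.mk g : Cfsg.POmega F Q)
      ≤ (Fintype.card F - 1) * K := Nat.mul_le_mul_left _ hle
    _ ≤ Fintype.card F ^ (m + 1) := hbound

end Cfsg.Agent.Helper94.Eo
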